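import Cfsg.Agent.H10.Shult.EndgameMain
import Cfsg.Agent.H83.Shult.ClosureCentre

/-!
# The case `C_G(σ) ≤ M` of Shult's theorem: closure and endgame combined
-/

set_option autoImplicit false
set_option linter.unusedSectionVars false

open Subgroup

namespace H10.Shult

variable {G : Type*} [Group G] [Finite G]

/-- In the configuration `C_G(σ) ≤ M` the subgroup `Z` is central. -/
theorem le_center_of_fixed_le {σ : MulAut G} {r : ℕ} {M U Z : Subgroup G}
    (C : H83.Shult.CC σ r M U Z) (pU : IsPGroup 2 U) (hne : M ≠ ⊤) (hodd : Odd M.index)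
    (twoM : ∀ T : Subgroup G, IsPGroup 2 T → (∀ t ∈ T, σ t ∈ T) → T ≤ M)
    (hperf : commutator G = ⊤) (hO : Cfsg.pPrimeCore 2 G ≤ Subgroup.center G) :
    Z ≤ Subgroup.center G := by
  classical
  have E : Endgame σ r M U Z :=
    { hσr := C.hσ
      hr := C.hr
      hcop := C.hcop
      hne := hne
      hodd := hodd
      hUM := C.hUM
      pU := pU
      normU := C.normU
      sigU := C.sigU
      hZU := C.hZU
      normZ := C.normZ
      sqZ := C.sqZ
      dec := C.decomp
      fixM := C.hCM
      twoM := twoM
      uniq := fun e he hec g hg => C.mem_of_conj he hec hg }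
  refine E.all_central hperf hO ?_
  -- at most one nontrivial element of `Z` is central
  let f : ↥(Z ⊓ Subgroup.center G) → Bool := fun z => decide ((z : G) = 1)
  have hf : Function.Injective f := by
    intro a b hab
    apply Subtype.ext
    have hiff : (a : G) = 1 ↔ (b : G) = 1 := by
      simpa [f] using hab
    by_cases ha : (a : G) = 1
    · rw [ha, hiff.mp ha]
    · have hb : (b : G) ≠ 1 := fun hb => ha (hiff.mpr hb)
      exact C.two_center a a.2.1 b b.2.1 a.2.2 b.2.2 ha hb
  simpa using Nat.card_le_card_of_injective f hf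

end H10.Shult
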