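import Mathlib

/-!
# The case of a central `Z` in Shult's theorem: a transfer argument

If `u` lies in a Sylow `2`-subgroup `S`, is central in `S` modulo `Z(G)` and squares into `Z(G)`, and
a homomorphism from `S` to an elementary abelian group kills `S ∩ Z(G)` and takes the same
nontrivial value on `u` and on all its conjugates by elements of `N(S)`, then `G` is not perfect.
-/

set_option autoImplicit false
set_option linter.unusedSectionVars false

open Subgroup MulAction

namespace H10.Shult

/-- For a `2`-group acting on a finite set, an invariant function into an elementary abelian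
`2`-group has the same product over all points as over the fixed points. -/
theorem prod_eq_prod_fixed {S X W : Type*} [Group S] [Fintype X] [MulAction S X] [CommGroup W]
    [DecidablePred (· ∈ fixedPoints S X)] (hS : IsPGroup 2 S) (hW : ∀ w : W, w * w = 1)
    (F : X → W) (hF : ∀ (s : S) (x : X), F (s • x) = F x) :
    ∏ x, F x = ∏ x ∈ Finset.univ.filter (· ∈ fixedPoints S X), F x := by
  classical
  haveI : Fact (Nat.Prime 2) := ⟨Nat.prime_two⟩
  have hpow : ∀ (w : W) (n : ℕ), w ^ n = w ^ (n % 2) := fun w n => by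
    conv_lhs => rw [← Nat.mod_add_div n 2]
    rw [pow_add, pow_mul, pow_two, hW, one_pow, mul_one]
  rw [← Finset.prod_fiberwise_of_maps_to (s := Finset.univ) (t := Finset.univ.image F) (g := F)
      (fun x _ => Finset.mem_image_of_mem F (Finset.mem_univ x)),
    ← Finset.prod_fiberwise_of_maps_to (s := Finset.univ.filter (· ∈ fixedPoints S X))
      (t := Finset.univ.image F) (g := F)
      (fun x _ => Finset.mem_image_of_mem F (Finset.mem_univ x))]
  refine Finset.prod_congr rfl fun w _ => ?_
  rw [Finset.prod_congr rfl (g := fun _ => w) (fun x hx => (Finset.mem_filter.mp hx).2),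
    Finset.prod_congr (s₁ := Finset.filter _ (Finset.univ.filter _)) rfl (g := fun _ => w)
      (fun x hx => (Finset.mem_filter.mp hx).2),
    Finset.prod_const, Finset.prod_const, hpow w, hpow w (Finset.card _)]
  congr 1
  let Y : SubMulAction S X :=
    { carrier := {x | F x = w}
      smul_mem' := fun s x hx => by
        show F (s • x) = w
        rw [hF]; exact hx }
  have h := hS.card_modEq_card_fixedPoints Y
  have h1 : Nat.card Y = (Finset.univ.filter fun x => F x = w).card := by
    rw [← Fintype.card_subtype, ← Nat.card_eq_fintype_card]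
    rfl
  have h2 : Nat.card (fixedPoints S Y) =
      ((Finset.univ.filter (· ∈ fixedPoints S X)).filter fun x => F x = w).card := by
    rw [Finset.filter_filter, ← Fintype.card_subtype, ← Nat.card_eq_fintype_card]
    exact Nat.card_congr
      ⟨fun x => ⟨x.1.1, fun s => congrArg Subtype.val (x.2 s), x.1.2⟩,
        fun x => ⟨⟨x.1, x.2.2⟩, fun s => Subtype.ext (x.2.1 s)⟩, fun _ => rfl, fun _ => rfl⟩
  rw [← h1, ← h2]
  exact h

variable {G : Type*} [Group G] [Finite G]

/-- The transfer argument. -/
theorem not_perfect_of_weakly_central (H : Subgroup G) (hHp : IsPGroup 2 H)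
    (hHi : ¬ 2 ∣ H.index) {W : Type*} [CommGroup W]
    (hW : ∀ w : W, w * w = 1) (ϕ : H →* W)
    (hker : ∀ z : H, (z : G) ∈ Subgroup.center G → ϕ z = 1)
    (u : H) (hu : ϕ u ≠ 1) (hu2 : (u : G) * u ∈ Subgroup.center G)
    (hcent : ∀ s ∈ H, s * u * s⁻¹ * (u : G)⁻¹ ∈ Subgroup.center G)
    (hN : ∀ n ∈ Subgroup.normalizer (H : Set G),
      ∀ h : n * u * n⁻¹ ∈ H, ϕ ⟨_, h⟩ = ϕ u) :
    commutator G ≠ ⊤ := by
  classical
  haveI : Fact (Nat.Prime 2) := ⟨Nat.prime_two⟩
  intro hperf
  letI instX : Fintype (G ⧸ H) := Fintype.ofFinite _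
  letI instQ := Fintype.ofFinite (Quotient (MulAction.orbitRel (zpowers (u : G)) (G ⧸ H)))
  -- the transfer is trivial
  have htriv : MonoidHom.transfer ϕ (u : G) = 1 := by
    have hle : commutator G ≤ (MonoidHom.transfer ϕ).ker := by
      rw [_root_.commutator_def, Subgroup.commutator_le]
      intro a _ b _
      rw [MonoidHom.mem_ker, map_commutatorElement, commutatorElement_eq_one_iff_commute]
      exact mul_comm _ _
    exact hle (hperf ▸ mem_top _)
  -- squares of `u` fix everything
  have hsq : ∀ x : G ⧸ H, (u : G) • (u : G) • x = x := by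
    intro x
    obtain ⟨g, rfl⟩ := QuotientGroup.mk_surjective x
    rw [← mul_smul, MulAction.Quotient.smul_coe, smul_eq_mul, QuotientGroup.eq]
    have e : ((u : G) * u * g)⁻¹ * g = ((u : G) * u)⁻¹ := by
      rw [← Subgroup.mem_center_iff.mp hu2 g]; group
    rw [e]
    exact inv_mem (mul_mem u.2 u.2)
  have hfix : ∀ x : G ⧸ H, (u : G) • x = x → x.out⁻¹ * u * x.out ∈ H := by
    intro x hx
    rw [← QuotientGroup.out_eq' x, MulAction.Quotient.smul_coe, smul_eq_mul, eq_comm,
      QuotientGroup.eq] at hx
    rw [mul_assoc]; exact hx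
  let F : G ⧸ H → W := fun x => if hx : (u : G) • x = x then ϕ ⟨_, hfix x hx⟩ else 1
  have hFval : ∀ (g : G) (hg : g⁻¹ * u * g ∈ H), F (g : G ⧸ H) = ϕ ⟨_, hg⟩ := by
    intro g hg
    have hx : (u : G) • (g : G ⧸ H) = (g : G ⧸ H) := by
      rw [MulAction.Quotient.smul_coe, smul_eq_mul, eq_comm, QuotientGroup.eq, ← mul_assoc]
      exact hg
    simp only [F, dif_pos hx]
    obtain ⟨h, hh⟩ := QuotientGroup.mk_out_eq_mul H g
    have : (⟨_, hfix _ hx⟩ : H) = h⁻¹ * ⟨_, hg⟩ * h := Subtype.ext (by
      show (Quotient.out (g : G ⧸ H))⁻¹ * u * Quotient.out (g : G ⧸ H) = _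
      rw [hh]; simp [mul_assoc])
    rw [this, map_mul, map_mul, map_inv, inv_mul_cancel_comm]
  -- the orbit formula
  have hprod : MonoidHom.transfer ϕ (u : G) = ∏ x, F x := by
    rw [MonoidHom.transfer_eq_prod_quotient_orbitRel_zpowers_quot]
    set Q := Quotient (MulAction.orbitRel (zpowers (u : G)) (G ⧸ H))
    have hterm : ∀ q : Q, ∀ h, ϕ ⟨q.out.out⁻¹ *
        (u : G) ^ Function.minimalPeriod ((u : G) • ·) q.out * q.out.out, h⟩ = F q.out := by
      intro q h
      by_cases hx : (u : G) • q.out = q.out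
      · simp only [F, dif_pos hx]
        congr 1
        refine Subtype.ext ?_
        show _ * (u : G) ^ _ * _ = _
        rw [Function.minimalPeriod_eq_one_iff_isFixedPt.mpr hx, pow_one]
      · simp only [F, dif_neg hx]
        have hp : Function.minimalPeriod ((u : G) • ·) q.out = 2 := by
          refine Function.minimalPeriod_eq_prime ?_ hx
          exact hsq q.out
        refine hker _ ?_
        show _ * (u : G) ^ _ * _ ∈ _
        rw [hp, pow_two]
        rw [mul_assoc, ← Subgroup.mem_center_iff.mp hu2 q.out.out, inv_mul_cancel_left]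
        exact hu2
    rw [Finset.prod_congr rfl fun q _ => hterm q _]
    refine Finset.prod_bij_ne_one (fun q _ _ => q.out) (fun _ _ _ => Finset.mem_univ _)
      (fun q _ _ q' _ _ h => Quotient.out_injective h) ?_ (fun _ _ _ => rfl)
    intro x _ hx
    have hxf : (u : G) • x = x := by
      by_contra hne
      exact hx (by simp only [F, dif_neg hne])
    have hall : ∀ k : zpowers (u : G), k • x = x := by
      rintro ⟨k, hk⟩
      have h1 : (u : G) ∈ MulAction.stabilizer G x := hxf
      exact zpowers_le.mpr h1 hk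
    refine ⟨Quotient.mk (MulAction.orbitRel (zpowers (u : G)) (G ⧸ H)) x, by simp, ?_, ?_⟩ <;>
    · have : (Quotient.mk (MulAction.orbitRel (zpowers (u : G)) (G ⧸ H)) x).out = x := by
        obtain ⟨k, hk⟩ := Quotient.mk_out (s := MulAction.orbitRel (zpowers (u : G)) (G ⧸ H)) x
        rw [← hk]; exact hall k
      first
        | (rw [this]; exact hx)
        | exact this
  -- invariance under `S`
  have hinv : ∀ (s : H) (x : G ⧸ H), F (s • x) = F x := by
    intro s x
    obtain ⟨g, rfl⟩ := QuotientGroup.mk_surjective x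
    show F (((s : G) * g : G) : G ⧸ H) = F (g : G ⧸ H)
    set z := (s : G)⁻¹ * u * s * (u : G)⁻¹ with hz
    have hzc : z ∈ Subgroup.center G := by
      have := hcent (s : G)⁻¹ (inv_mem s.2)
      rwa [inv_inv] at this
    have hzH : z ∈ H := mul_mem (mul_mem (mul_mem (inv_mem s.2) u.2) s.2) (inv_mem u.2)
    have he : ((s : G) * g)⁻¹ * u * ((s : G) * g) = g⁻¹ * u * g * z := by
      calc ((s : G) * g)⁻¹ * u * ((s : G) * g) = g⁻¹ * (z * u) * g := by rw [hz]; group
        _ = g⁻¹ * (u * z) * g := by rw [Subgroup.mem_center_iff.mp hzc u]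
        _ = g⁻¹ * u * (z * g) := by group
        _ = g⁻¹ * u * (g * z) := by rw [Subgroup.mem_center_iff.mp hzc g]
        _ = _ := by group
    by_cases hx : g⁻¹ * u * g ∈ H
    · have hx' : ((s : G) * g)⁻¹ * u * ((s : G) * g) ∈ H := by rw [he]; exact mul_mem hx hzH
      rw [hFval _ hx', hFval _ hx]
      have : (⟨_, hx'⟩ : H) = ⟨_, hx⟩ * ⟨z, hzH⟩ := Subtype.ext he
      rw [this, map_mul, hker ⟨z, hzH⟩ hzc, mul_one]
    · have hx' : ¬ ((s : G) * g)⁻¹ * u * ((s : G) * g) ∈ H := fun h => hx (by
        rw [he] at h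
        simpa using mul_mem h (inv_mem hzH))
      have key : ∀ a : G, ¬ a⁻¹ * u * a ∈ H → F (a : G ⧸ H) = 1 := by
        intro a ha
        refine dif_neg fun h => ha ?_
        rw [MulAction.Quotient.smul_coe, smul_eq_mul, eq_comm, QuotientGroup.eq] at h
        rwa [← mul_assoc] at h
      rw [key _ hx', key _ hx]
  -- fixed points of `S` are the cosets of its normaliser
  have hfixed : ∀ x ∈ fixedPoints H (G ⧸ H), F x = ϕ u := by
    intro x hx
    obtain ⟨g, rfl⟩ := QuotientGroup.mk_surjective x
    have hg : g ∈ Subgroup.normalizer (H : Set G) :=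
      Sylow.mem_fixedPoints_mul_left_cosets_iff_mem_normalizer.mp hx
    have hgm : g⁻¹ * u * g ∈ H := by
      have := (Subgroup.mem_normalizer_iff.mp (inv_mem hg) u).mp u.2
      simpa using this
    rw [hFval g hgm]
    have := hN g⁻¹ (inv_mem hg) (by simpa using hgm)
    refine Eq.trans ?_ this
    congr 1
    exact Subtype.ext (by simp)
  have hodd : Odd (Finset.univ.filter (· ∈ fixedPoints H (G ⧸ H))).card := by
    have h := hHp.card_modEq_card_fixedPoints (G ⧸ H)
    rw [← Subgroup.index_eq_card] at h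
    rw [← Fintype.card_subtype, ← Nat.card_eq_fintype_card, Nat.odd_iff]
    rw [Nat.two_dvd_ne_zero] at hHi
    exact (Eq.symm h).trans hHi
  apply hu
  rw [← htriv, hprod, prod_eq_prod_fixed hHp hW F hinv,
    Finset.prod_congr rfl fun x hx => hfixed x (Finset.mem_filter.mp hx).2, Finset.prod_const]
  obtain ⟨k, hk⟩ := hodd
  rw [hk, pow_succ, pow_mul, pow_two, hW, one_pow, one_mul]

end H10.Shult
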