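import Mathlib
import Cfsg.Agent.H65.BaerSuzuki
import Cfsg.Agent.H29.CommutatorFixedBasic
import Cfsg.Agent.H85.BrauerSuzuki
import Cfsg.Agent.H83.Shult.Closure

/-!
# Endgame of Shult's fixed point theorem when the fixed points lie in the maximal subgroup

`σ` is the coprime automorphism of prime order, `M = C(σ) U` the maximal invariant overgroup of the
moved `2`-group `U`, `Z = C_U(σ)`.  If every noncentral element of `Z` fixes exactly one coset of
`M`, then two points are interchanged by at most `|Z ∩ Z(G)|` conjugates of such elements, so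
counting transpositions gives `|Z| ≤ 2 |Z ∩ Z(G)|` and then the `Z*`-theorem makes `Z` central.
-/

set_option autoImplicit false
set_option linter.style.haveILetI false
set_option linter.unusedSectionVars false

open Subgroup MulAction
open scoped Pointwise

namespace H10.Shult

variable {G : Type*} [Group G]

/-- The configuration of the endgame. -/
structure Endgame (σ : MulAut G) (r : ℕ) (M U Z : Subgroup G) : Prop where
  hσr : σ ^ r = 1
  hr : r.Prime
  hcop : ¬ r ∣ Nat.card G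
  hne : M ≠ ⊤
  hodd : Odd M.index
  hUM : U ≤ M
  pU : IsPGroup 2 U
  normU : ∀ m ∈ M, ∀ u ∈ U, m * u * m⁻¹ ∈ U
  sigU : ∀ u ∈ U, σ u ∈ U
  hZU : Z ≤ U
  normZ : ∀ m ∈ M, ∀ z ∈ Z, m * z * m⁻¹ ∈ Z
  sqZ : ∀ z ∈ Z, z * z = 1
  dec : ∀ m ∈ M, ∃ c ∈ M, σ c = c ∧ ∃ u ∈ U, m = c * u
  fixM : ∀ c : G, σ c = c → c ∈ M
  twoM : ∀ T : Subgroup G, IsPGroup 2 T → (∀ t ∈ T, σ t ∈ T) → T ≤ M
  uniq : ∀ e ∈ Z, e ∉ Subgroup.center G → ∀ g : G, g * e * g⁻¹ ∈ M → g ∈ M

/-- The conjugates of the noncentral elements of `Z`. -/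
def dset (Z : Subgroup G) : Set G :=
  {d | ∃ g : G, ∃ e ∈ Z, e ∉ Subgroup.center G ∧ d = g * e * g⁻¹}

theorem dset_conj {Z : Subgroup G} (a : G) {d : G} (hd : d ∈ dset Z) :
    a * d * a⁻¹ ∈ dset Z := by
  obtain ⟨g, e, he, hec, rfl⟩ := hd
  exact ⟨a * g, e, he, hec, by group⟩

theorem isPGroup_of_forall_pow {p : ℕ} {H : Subgroup G} (h : ∀ x ∈ H, ∃ k : ℕ, x ^ p ^ k = 1) :
    IsPGroup p H := fun x => by
  obtain ⟨k, hk⟩ := h x x.2
  exact ⟨k, Subtype.ext (by simpa using hk)⟩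

/-- Two involutions whose product has `2`-power order generate a `2`-group. -/
theorem isPGroup_closure_pair [Finite G] {y z : G} (hy : y * y = 1) (hz : z * z = 1)
    (hyz : ∃ k : ℕ, (y * z) ^ 2 ^ k = 1) : IsPGroup 2 ↥(closure ({y, z} : Set G)) := by
  have hyi : y⁻¹ = y := inv_eq_of_mul_eq_one_right hy
  have hzi : z⁻¹ = z := inv_eq_of_mul_eq_one_right hz
  have hN : IsPGroup 2 (zpowers (y * z)) := isPGroup_of_forall_pow fun x hx => by
    obtain ⟨i, rfl⟩ := mem_zpowers_iff.mp hx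
    obtain ⟨k, hk⟩ := hyz
    refine ⟨k, ?_⟩
    rw [← zpow_natCast, ← zpow_mul, mul_comm i, zpow_mul, zpow_natCast, hk, one_zpow]
  have hY : IsPGroup 2 (zpowers y) := isPGroup_of_forall_pow fun x hx => by
    obtain ⟨i, rfl⟩ := mem_zpowers_iff.mp hx
    refine ⟨1, ?_⟩
    rw [pow_one, ← zpow_natCast, ← zpow_mul, mul_comm i, zpow_mul, zpow_natCast, pow_two, hy,
      one_zpow]
  have hnorm : zpowers y ≤ normalizer (zpowers (y * z) : Set G) := by
    rw [zpowers_le, mem_normalizer_iff]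
    intro h
    have hconj : ∀ h' ∈ zpowers (y * z), y * h' * y⁻¹ ∈ zpowers (y * z) := by
      intro h' hh'
      obtain ⟨i, rfl⟩ := mem_zpowers_iff.mp hh'
      refine ⟨-i, ?_⟩
      have : y * (y * z) * y⁻¹ = (y * z)⁻¹ := by
        rw [hyi, mul_inv_rev, hzi, hyi]
        calc y * (y * z) * y = (y * y) * z * y := by group
          _ = z * y := by rw [hy, one_mul]
      calc (y * z) ^ (-i) = ((y * z)⁻¹) ^ i := by rw [inv_zpow, zpow_neg]
        _ = (y * (y * z) * y⁻¹) ^ i := by rw [this]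
        _ = y * (y * z) ^ i * y⁻¹ := conj_zpow
    refine ⟨hconj h, fun hh => ?_⟩
    have h2 := hconj _ hh
    have e : y * (y * h * y⁻¹) * y⁻¹ = h := by
      rw [hyi]
      calc y * (y * h * y) * y = (y * y) * h * (y * y) := by group
        _ = h := by rw [hy, one_mul, mul_one]
    rwa [e] at h2
  refine (hN.to_sup_of_normal_left' hY hnorm).to_le ((closure_le _).2 ?_)
  rintro w (rfl | rfl)
  · exact mem_sup_right (mem_zpowers w)
  · have h1 : y⁻¹ ∈ zpowers (y * w) ⊔ zpowers y := inv_mem (mem_sup_right (mem_zpowers y))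
    have h2 : y * w ∈ zpowers (y * w) ⊔ zpowers y := mem_sup_left (mem_zpowers (y * w))
    simpa using mul_mem h1 h2

namespace Endgame

variable {σ : MulAut G} {r : ℕ} {M U Z : Subgroup G}

theorem dset_sq (E : Endgame σ r M U Z) {d : G} (hd : d ∈ dset Z) : d * d = 1 := by
  obtain ⟨g, e, he, -, rfl⟩ := hd
  calc g * e * g⁻¹ * (g * e * g⁻¹) = g * (e * e) * g⁻¹ := by group
    _ = 1 := by rw [E.sqZ e he]; group

/-- An element of `D` lying in `M` lies in `Z`. -/
theorem mem_Z (E : Endgame σ r M U Z) {d : G} (hd : d ∈ dset Z) (hdM : d ∈ M) :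
    d ∈ Z ∧ d ∉ Subgroup.center G := by
  obtain ⟨g, e, he, hec, rfl⟩ := hd
  refine ⟨E.normZ g (E.uniq e he hec g hdM) e he, fun hc => hec ?_⟩
  have h := (Subgroup.normal_of_characteristic (Subgroup.center G)).conj_mem _ hc g⁻¹
  simpa [mul_assoc] using h

variable [Finite G]

/-- No element of `D` inverts a nontrivial fixed element of odd order. -/
theorem fixed_odd (E : Endgame σ r M U Z) {c d : G} (hc : σ c = c) (hcodd : Odd (orderOf c))
    (hd : d ∈ dset Z) (hinv : d * c * d⁻¹ = c⁻¹) : c = 1 := by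
  classical
  have : Fact r.Prime := ⟨E.hr⟩
  have : Fact (Nat.Prime 2) := ⟨Nat.prime_two⟩
  -- the extended centraliser of `c`
  let N : Subgroup G :=
    { carrier := {g | g * c * g⁻¹ = c ∨ g * c * g⁻¹ = c⁻¹}
      one_mem' := Or.inl (by simp)
      mul_mem' := by
        intro a b ha hb
        have e : a * b * c * (a * b)⁻¹ = a * (b * c * b⁻¹) * a⁻¹ := by group
        have e' : ∀ x : G, a * x⁻¹ * a⁻¹ = (a * x * a⁻¹)⁻¹ := fun x => by group
        rcases ha with ha | ha <;> rcases hb with hb | hb <;>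
          simp only [Set.mem_setOf_eq, e, hb, e', ha, inv_inv] <;> simp
      inv_mem' := by
        intro a ha
        have e' : a⁻¹ * c⁻¹ * a⁻¹⁻¹ = (a⁻¹ * c * a⁻¹⁻¹)⁻¹ := by group
        rcases ha with ha | ha
        · exact Or.inl (by
            calc a⁻¹ * c * a⁻¹⁻¹ = a⁻¹ * (a * c * a⁻¹) * a⁻¹⁻¹ := by rw [ha]
              _ = c := by group)
        · refine Or.inr ?_
          have h1 : a⁻¹ * c⁻¹ * a⁻¹⁻¹ = c := by
            calc a⁻¹ * c⁻¹ * a⁻¹⁻¹ = a⁻¹ * (a * c * a⁻¹) * a⁻¹⁻¹ := by rw [ha]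
              _ = c := by group
          rw [e'] at h1
          exact eq_inv_of_mul_eq_one_left (by
            conv_lhs => arg 2; rw [← h1]
            exact mul_inv_cancel _) }
  have hNσ : ∀ g ∈ N, σ g ∈ N := by
    rintro g (hg | hg)
    · left
      calc σ g * c * (σ g)⁻¹ = σ (g * c * g⁻¹) := by rw [map_mul, map_mul, map_inv, hc]
        _ = c := by rw [hg, hc]
    · right
      calc σ g * c * (σ g)⁻¹ = σ (g * c * g⁻¹) := by rw [map_mul, map_mul, map_inv, hc]
        _ = c⁻¹ := by rw [hg, map_inv, hc]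
  -- restrict the automorphism to `N`
  let f : N →* N := (σ.toMonoidHom.comp N.subtype).codRestrict N fun g => hNσ g g.2
  have hf : Function.Bijective f := Finite.injective_iff_bijective.mp fun a b hab =>
    Subtype.ext (σ.injective (congrArg Subtype.val hab))
  let τ : MulAut N := MulEquiv.ofBijective f hf
  have hτ : ∀ (k : ℕ) (g : N), ((τ ^ k) g : G) = (σ ^ k) (g : G) := by
    intro k
    induction k with
    | zero => simp
    | succ k ih => intro g; rw [pow_succ, pow_succ, MulAut.mul_apply, MulAut.mul_apply, ih]; rfl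
  have hτr : τ ^ r = 1 := by
    ext g
    rw [hτ, E.hσr]; rfl
  obtain ⟨Q, hQ⟩ := Cfsg.Agent.H29.exists_invariant_sylow hτr
    (fun h => E.hcop (h.trans (card_subgroup_dvd_card N))) 2
  set T : Subgroup G := (Q : Subgroup N).map N.subtype with hT
  have hTM : T ≤ M := by
    refine E.twoM T (Q.2.map _) ?_
    rintro _ ⟨q, hq, rfl⟩
    exact ⟨τ q, hQ q hq, rfl⟩
  have hdN : d ∈ N := Or.inr hinv
  have hdp : IsPGroup 2 (zpowers (⟨d, hdN⟩ : N)) := isPGroup_of_forall_pow fun x hx => by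
    obtain ⟨i, rfl⟩ := mem_zpowers_iff.mp hx
    refine ⟨1, ?_⟩
    rw [pow_one, ← zpow_natCast, ← zpow_mul, mul_comm i, zpow_mul, zpow_natCast,
      show (⟨d, hdN⟩ : N) ^ 2 = 1 from Subtype.ext (by simp [pow_two, E.dset_sq hd]), one_zpow]
  obtain ⟨Q', hQ'⟩ := hdp.exists_le_sylow
  obtain ⟨n, hn⟩ := MulAction.exists_smul_eq N Q' Q
  set d' := (n : G) * d * (n : G)⁻¹ with hd'
  have hd'T : d' ∈ T := by
    refine ⟨n * ⟨d, hdN⟩ * n⁻¹, ?_, rfl⟩
    rw [← hn]
    exact ⟨⟨d, hdN⟩, hQ' (mem_zpowers _), rfl⟩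
  have hd'D := dset_conj (n : G) hd
  obtain ⟨hd'Z, -⟩ := E.mem_Z hd'D (hTM hd'T)
  have hinv' : d' * c * d'⁻¹ = c⁻¹ := by
    have hn2 : (n : G)⁻¹ ∈ N := inv_mem n.2
    have e : d' * c * d'⁻¹ = (n : G) * (d * ((n : G)⁻¹ * c * (n : G)⁻¹⁻¹) * d⁻¹) * (n : G)⁻¹ := by
      rw [hd']; group
    have hrev : d * c⁻¹ * d⁻¹ = c := by
      calc d * c⁻¹ * d⁻¹ = (d * c * d⁻¹)⁻¹ := by group
        _ = c := by rw [hinv, inv_inv]
    rcases n.2 with h | h
    · have h2 : (n : G)⁻¹ * c * (n : G)⁻¹⁻¹ = c := by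
        calc (n : G)⁻¹ * c * (n : G)⁻¹⁻¹ = (n : G)⁻¹ * ((n : G) * c * (n : G)⁻¹) * (n : G) := by
              rw [h, inv_inv]
          _ = c := by group
      rw [e, h2, hinv]
      calc (n : G) * c⁻¹ * (n : G)⁻¹ = ((n : G) * c * (n : G)⁻¹)⁻¹ := by group
        _ = c⁻¹ := by rw [h]
    · have h2 : (n : G)⁻¹ * c * (n : G)⁻¹⁻¹ = c⁻¹ := by
        calc (n : G)⁻¹ * c * (n : G)⁻¹⁻¹ = ((n : G)⁻¹ * ((n : G) * c * (n : G)⁻¹) * (n : G))⁻¹ := by
              rw [h]; group
          _ = c⁻¹ := by group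
      rw [e, h2, hrev, h]
  -- `[d', c]` lies in `Z`
  have hcM := E.fixM c hc
  have hc2 : c⁻¹ * c⁻¹ ∈ Z := by
    have h1 : c⁻¹ * d' * c⁻¹⁻¹ ∈ Z := E.normZ _ (inv_mem hcM) _ hd'Z
    have h2 := mul_mem hd'Z h1
    have e : d' * (c⁻¹ * d' * c⁻¹⁻¹) = (d' * c⁻¹ * d'⁻¹) * (d' * d') * c := by group
    have h3 : d' * c⁻¹ * d'⁻¹ = c := by
      calc d' * c⁻¹ * d'⁻¹ = (d' * c * d'⁻¹)⁻¹ := by group
        _ = c := by rw [hinv', inv_inv]
    rw [e, h3, E.sqZ d' hd'Z, mul_one] at h2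
    have := inv_mem h2
    rwa [mul_inv_rev] at this
  have h4 : c ^ 4 = 1 := by
    have := E.sqZ _ hc2
    calc c ^ 4 = ((c⁻¹ * c⁻¹) * (c⁻¹ * c⁻¹))⁻¹ := by group
      _ = 1 := by rw [this, inv_one]
  have h2 : orderOf c ∣ 2 ^ 2 := orderOf_dvd_of_pow_eq_one (by norm_num; exact h4)
  have h5 : (orderOf c).Coprime (2 ^ 2) := Nat.Coprime.pow_right _ (Nat.coprime_two_right.mpr hcodd)
  exact orderOf_eq_one_iff.mp (Nat.eq_one_of_dvd_coprimes h5 dvd_rfl h2)

/-- No element of `D` inverts an element of odd prime order of `M`. -/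
theorem odd_prime_M (E : Endgame σ r M U Z) {y d : G} (hy : y ∈ M) (hl : (orderOf y).Prime)
    (hl2 : orderOf y ≠ 2) (hd : d ∈ dset Z) : d * y * d⁻¹ ≠ y⁻¹ := by
  classical
  intro hinv
  have : Fact r.Prime := ⟨E.hr⟩
  set l := orderOf y with hldef
  have : Fact l.Prime := ⟨hl⟩
  have hyn : zpowers y ≤ normalizer (U : Set G) := by
    rw [zpowers_le, mem_normalizer_iff]
    intro h
    refine ⟨E.normU y hy h, fun hh => ?_⟩
    have := E.normU y⁻¹ (inv_mem hy) _ hh
    simpa [mul_assoc] using this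
  set H : Subgroup G := U ⊔ zpowers y with hH
  have hHM : H ≤ M := sup_le E.hUM (zpowers_le.mpr hy)
  have hmemH : ∀ h ∈ H, ∃ u ∈ U, ∃ i : ℤ, h = u * y ^ i := by
    intro h hh
    have hh' : h ∈ ((U : Set G) * (zpowers y : Subgroup G) : Set G) := by
      rw [← coe_mul_of_right_le_normalizer_left U (zpowers y) hyn]; exact hh
    obtain ⟨u, hu, k, hk, rfl⟩ := hh'
    obtain ⟨i, rfl⟩ := mem_zpowers_iff.mp hk
    exact ⟨u, hu, i, rfl⟩
  -- the automorphism moves elements of `M` only within their cosets of `U`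
  have hmove : ∀ m ∈ M, m⁻¹ * σ m ∈ U := by
    intro m hm
    obtain ⟨c, hc, hσc, u, hu, rfl⟩ := E.dec m hm
    rw [map_mul, hσc, show (c * u)⁻¹ * (c * σ u) = u⁻¹ * σ u by group]
    exact mul_mem (inv_mem hu) (E.sigU u hu)
  have hHσ : ∀ h ∈ H, σ h ∈ H := fun h hh => by
    have := mul_mem hh (mem_sup_left (hmove h (hHM hh)) : h⁻¹ * σ h ∈ H)
    simpa using this
  let f : H →* H := (σ.toMonoidHom.comp H.subtype).codRestrict H fun g => hHσ g g.2
  have hf : Function.Bijective f := Finite.injective_iff_bijective.mp fun a b hab =>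
    Subtype.ext (σ.injective (congrArg Subtype.val hab))
  let τ : MulAut H := MulEquiv.ofBijective f hf
  have hτ : ∀ (k : ℕ) (g : H), ((τ ^ k) g : G) = (σ ^ k) (g : G) := by
    intro k
    induction k with
    | zero => simp
    | succ k ih => intro g; rw [pow_succ, pow_succ, MulAut.mul_apply, MulAut.mul_apply, ih]; rfl
  have hτr : τ ^ r = 1 := by
    ext g
    rw [hτ, E.hσr]; rfl
  obtain ⟨Q, hQ⟩ := Cfsg.Agent.H29.exists_invariant_sylow hτr
    (fun h => E.hcop (h.trans (card_subgroup_dvd_card H))) l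
  set yH : H := ⟨y, mem_sup_right (mem_zpowers y)⟩ with hyH
  have hyHo : orderOf yH = l := by rw [hyH, Subgroup.orderOf_mk]
  obtain ⟨Q', hQ'⟩ := (IsPGroup.of_card (n := 1)
    (by rw [Nat.card_zpowers, hyHo, pow_one]) : IsPGroup l (zpowers yH)).exists_le_sylow
  obtain ⟨h, hh⟩ := MulAction.exists_smul_eq H Q' Q
  set c := (h : G) * y * (h : G)⁻¹ with hcdef
  have hcQ : h * yH * h⁻¹ ∈ (Q : Subgroup H) := by
    rw [← hh]
    exact ⟨yH, hQ' (mem_zpowers _), rfl⟩
  -- `c` is fixed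
  have hσcQ : (h * yH * h⁻¹)⁻¹ * τ (h * yH * h⁻¹) ∈ (Q : Subgroup H) :=
    mul_mem (inv_mem hcQ) (hQ _ hcQ)
  have hcM : c ∈ M := hHM (h * yH * h⁻¹).2
  have hfix : σ c = c := by
    have hU' := hmove c hcM
    obtain ⟨a, ha⟩ := Q.2 ⟨_, hσcQ⟩
    obtain ⟨b, hb⟩ := E.pU ⟨_, hU'⟩
    have ha' : (c⁻¹ * σ c) ^ l ^ a = 1 := congrArg (fun x : (Q : Subgroup H) => ((x : H) : G)) ha
    have hb' : (c⁻¹ * σ c) ^ 2 ^ b = 1 := congrArg Subtype.val hb
    have hcp : (l ^ a).Coprime (2 ^ b) := Nat.Coprime.pow _ _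
      ((Nat.coprime_primes hl Nat.prime_two).mpr hl2)
    have h1 := pow_gcd_eq_one.mpr ⟨ha', hb'⟩
    rw [hcp, pow_one] at h1
    exact (inv_mul_eq_one.mp h1).symm
  have hco : orderOf c = l := by
    rw [hcdef, ← MulAut.conj_apply]
    exact orderOf_injective (MulAut.conj (h : G)).toMonoidHom (MulEquiv.injective _) y
  have hodd : Odd (orderOf c) := by rw [hco]; exact hl.odd_of_ne_two hl2
  have hd' := dset_conj (h : G) hd
  have hc1 := E.fixed_odd hfix hodd hd' (by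
    calc (h : G) * d * (h : G)⁻¹ * c * ((h : G) * d * (h : G)⁻¹)⁻¹
        = (h : G) * (d * y * d⁻¹) * (h : G)⁻¹ := by rw [hcdef]; group
      _ = c⁻¹ := by rw [hinv, hcdef]; group)
  rw [hc1, orderOf_one] at hco
  exact hl.ne_one hco.symm

/-- The product of two elements of `D` interchanging two cosets has `2`-power order. -/
theorem prod_two_power (E : Endgame σ r M U Z) {v v' : G} {a b : G ⧸ M} (hv : v ∈ dset Z)
    (hv' : v' ∈ dset Z) (hva : v • a = b) (hv'b : v' • b = a) :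
    ∃ k : ℕ, (v' * v) ^ 2 ^ k = 1 := by
  set y := v' * v with hy
  have hya : y • a = a := by rw [hy, mul_smul, hva, hv'b]
  have hvi : v⁻¹ = v := inv_eq_of_mul_eq_one_right (E.dset_sq hv)
  have hv'i : v'⁻¹ = v' := inv_eq_of_mul_eq_one_right (E.dset_sq hv')
  by_contra hcon
  push Not at hcon
  obtain ⟨l, hl, hldvd, hl2⟩ : ∃ l, l.Prime ∧ l ∣ orderOf y ∧ l ≠ 2 := by
    by_contra hno
    push Not at hno
    have hpos := orderOf_pos y
    have hfac : orderOf y = 2 ^ (orderOf y).primeFactorsList.length :=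
      Nat.eq_prime_pow_of_unique_prime_dvd hpos.ne' fun {q} hq hqd => hno q hq hqd
    exact hcon _ (by rw [← hfac]; exact pow_orderOf_eq_one y)
  set k := orderOf y / l with hk
  have hk0 : k ≠ 0 := (Nat.div_pos (Nat.le_of_dvd (orderOf_pos y) hldvd) hl.pos).ne'
  have hyo : orderOf (y ^ k) = l := by
    rw [orderOf_pow' y hk0, hk, Nat.gcd_eq_right (Nat.div_dvd_of_dvd hldvd),
      Nat.div_div_self hldvd (orderOf_pos y).ne']
  obtain ⟨g, rfl⟩ := QuotientGroup.mk_surjective a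
  have hinvy : v * y * v⁻¹ = y⁻¹ := by
    rw [hy, mul_inv_rev, hvi, hv'i]
    calc v * (v' * v) * v = v * v' * (v * v) := by group
      _ = v * v' := by rw [E.dset_sq hv, mul_one]
  have hpow : ∀ n : ℕ, (y ^ n) • (g : G ⧸ M) = (g : G ⧸ M) := by
    intro n
    induction n with
    | zero => simp
    | succ n ih => rw [pow_succ, mul_smul, hya, ih]
  have hym : g⁻¹ * y ^ k * g ∈ M := by
    have := hpow k
    rw [MulAction.Quotient.smul_coe, smul_eq_mul, eq_comm, QuotientGroup.eq] at this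
    simpa [mul_assoc] using this
  have ho : orderOf (g⁻¹ * y ^ k * g) = l := by
    rw [← hyo]
    have := orderOf_injective (MulAut.conj g⁻¹).toMonoidHom (MulEquiv.injective _) (y ^ k)
    simpa [MulAut.conj_apply] using this
  refine E.odd_prime_M hym (ho ▸ hl) (ho ▸ hl2) (dset_conj g⁻¹ hv) ?_
  calc g⁻¹ * v * g⁻¹⁻¹ * (g⁻¹ * y ^ k * g) * (g⁻¹ * v * g⁻¹⁻¹)⁻¹
      = g⁻¹ * (v * y ^ k * v⁻¹) * g := by group
    _ = g⁻¹ * (v * y * v⁻¹) ^ k * g := by rw [conj_pow]
    _ = (g⁻¹ * y ^ k * g)⁻¹ := by rw [hinvy, inv_pow]; group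

/-- An element of `D` fixes only one coset. -/
theorem fix_unique (E : Endgame σ r M U Z) {g e : G} (he : e ∈ Z) (hec : e ∉ Subgroup.center G)
    {a : G ⧸ M} (ha : (g * e * g⁻¹) • a = a) : a = (g : G ⧸ M) := by
  obtain ⟨h, rfl⟩ := QuotientGroup.mk_surjective a
  rw [MulAction.Quotient.smul_coe, smul_eq_mul, eq_comm, QuotientGroup.eq] at ha
  have h1 : (h⁻¹ * g) * e * (h⁻¹ * g)⁻¹ ∈ M := by simpa [mul_assoc] using ha
  exact QuotientGroup.eq.mpr (E.uniq e he hec _ h1)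

/-- Two elements of `D` interchanging the same two cosets differ by a central element of `Z`. -/
theorem swap_unique (E : Endgame σ r M U Z) {a b : G ⧸ M} (hab : a ≠ b) {v v' : G}
    (hv : v ∈ dset Z) (hva : v • a = b) (hv' : v' ∈ dset Z) (hv'a : v' • a = b) :
    v' * v ∈ Z ⊓ Subgroup.center G := by
  classical
  have : Fact (Nat.Prime 2) := ⟨Nat.prime_two⟩
  have hswap : ∀ w ∈ dset Z, w • a = b → w • b = a := fun w hw h => by
    rw [← h, ← mul_smul, E.dset_sq hw, one_smul]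
  let K : Subgroup G := MulAction.stabilizer G ({a, b} : Set (G ⧸ M))
  let C : Set K := {k | (k : G) ∈ dset Z ∧ (k : G) • a = b}
  have hKmem : ∀ w ∈ dset Z, w • a = b → w ∈ K := by
    intro w hw h
    show w • ({a, b} : Set (G ⧸ M)) = {a, b}
    rw [Set.smul_set_insert, Set.smul_set_singleton, h, hswap w hw h, Set.pair_comm]
  have hKab : ∀ k ∈ K, (k • a = a ∧ k • b = b) ∨ (k • a = b ∧ k • b = a) := by
    intro k hk
    have hk' : ({k • a, k • b} : Set (G ⧸ M)) = {a, b} := by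
      rw [← Set.smul_set_singleton, ← Set.smul_set_insert]; exact hk
    exact Set.pair_eq_pair_iff.mp hk'
  have hC : ∀ k : K, ∀ y ∈ C, k * y * k⁻¹ ∈ C := by
    rintro k y ⟨hy1, hy2⟩
    refine ⟨dset_conj (k : G) hy1, ?_⟩
    have hyb := hswap _ hy1 hy2
    rcases hKab _ k.2 with ⟨h1, h2⟩ | ⟨h1, h2⟩
    · have h1' : (k : G)⁻¹ • a = a := by rw [inv_smul_eq_iff, h1]
      simp [mul_smul, h1', hy2, h2]
    · have h1' : (k : G)⁻¹ • a = b := by rw [inv_smul_eq_iff, h2]
      simp [mul_smul, h1', hyb, h1]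
  have hpair : ∀ y ∈ C, ∀ z ∈ C, IsPGroup 2 ↥(closure ({y, z} : Set K)) := by
    rintro y ⟨hy1, hy2⟩ z ⟨hz1, hz2⟩
    refine isPGroup_closure_pair (Subtype.ext (by simpa using E.dset_sq hy1))
      (Subtype.ext (by simpa using E.dset_sq hz1)) ?_
    obtain ⟨k, hk⟩ := E.prod_two_power hz1 hy1 hz2 (hswap _ hy1 hy2)
    exact ⟨k, Subtype.ext (by simpa using hk)⟩
  have hsub := H65.baer_suzuki_set hC hpair
  set T : Subgroup G := (Cfsg.pCore 2 K).map K.subtype with hT
  have hTp : IsPGroup 2 T := (H1.isPGroup_pCore 2 K).map _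
  have hmemT : ∀ w ∈ dset Z, w • a = b → w ∈ T := fun w hw h =>
    ⟨⟨w, hKmem w hw h⟩, hsub ⟨hw, h⟩, rfl⟩
  -- a fixed point of the `2`-group
  obtain ⟨δ, hδ⟩ := hTp.nonempty_fixed_point_of_prime_not_dvd_card (G ⧸ M) (by
    rw [← Subgroup.index_eq_card]
    exact fun h => (Nat.not_even_iff_odd.mpr E.hodd) (even_iff_two_dvd.mpr h))
  have hfix : ∀ w ∈ dset Z, w • a = b → w • δ = δ := fun w hw h => hδ ⟨w, hmemT w hw h⟩
  have h1 := hfix v hv hva
  have h2 := hfix v' hv' hv'a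
  have hfa : (v' * v) • a = a := by rw [mul_smul, hva, hswap v' hv' hv'a]
  obtain ⟨g, e, he, hec, rfl⟩ := hv
  obtain ⟨g', e', he', hec', rfl⟩ := hv'
  have hg : δ = (g : G ⧸ M) := E.fix_unique he hec h1
  have hg' : δ = (g' : G ⧸ M) := E.fix_unique he' hec' h2
  set m := g⁻¹ * g' with hm
  have hmM : m ∈ M := QuotientGroup.eq.mp (hg.symm.trans hg')
  set f := m * e' * m⁻¹ * e with hf
  have hfZ : f ∈ Z := mul_mem (E.normZ m hmM e' he') he
  have hval : g' * e' * g'⁻¹ * (g * e * g⁻¹) = g * f * g⁻¹ := by rw [hf, hm]; group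
  have hfc : f ∈ Subgroup.center G := by
    by_contra hfc
    have := E.fix_unique hfZ hfc (a := a) (by rw [← hval]; exact hfa)
    exact hab (by rw [← hva, this, ← hg, h1])
  rw [hval, show g * f * g⁻¹ = f by rw [(Subgroup.mem_center_iff.mp hfc g)]; group]
  exact ⟨hfZ, hfc⟩

/-- Counting interchanged pairs bounds `Z` by twice its central part. -/
theorem card_le (E : Endgame σ r M U Z) :
    Nat.card {e : Z // (e : G) ∉ Subgroup.center G} ≤ Nat.card ↥(Z ⊓ Subgroup.center G) := by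
  classical
  set a : G ⧸ M := ((1 : G) : G ⧸ M) with ha
  let A := {δ : G ⧸ M // δ ≠ a}
  let Zs := {e : Z // (e : G) ∉ Subgroup.center G}
  have hA : 0 < Nat.card A := by
    obtain ⟨g, hg⟩ : ∃ g : G, g ∉ M := by
      by_contra h
      push Not at h
      exact E.hne (eq_top_iff.mpr fun g _ => h g)
    have : Nonempty A := ⟨⟨(g : G ⧸ M), fun h => hg (by
      rw [ha, eq_comm, QuotientGroup.eq, inv_one, one_mul] at h; exact h)⟩⟩
    exact Nat.card_pos
  let vv : A × Zs → G := fun p => p.1.1.out * (p.2.1 : G) * p.1.1.out⁻¹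
  have hvv : ∀ p, vv p ∈ dset Z := fun p => ⟨_, _, p.2.1.2, p.2.2, rfl⟩
  have hne : ∀ p : A × Zs, vv p • a ≠ a := fun p h => p.1.2 (by
    have h' := E.fix_unique p.2.1.2 p.2.2 h
    rw [QuotientGroup.out_eq'] at h'
    exact h'.symm)
  let pick : A → G := fun β => if h : ∃ w ∈ dset Z, w • a = β.1 then h.choose else 1
  let Φ : A × Zs → A × ↥(Z ⊓ Subgroup.center G) := fun p =>
    (⟨vv p • a, hne p⟩, ⟨vv p * pick ⟨vv p • a, hne p⟩, by
      have hex : ∃ w ∈ dset Z, w • a = vv p • a := ⟨_, hvv p, rfl⟩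
      have hpick : pick ⟨vv p • a, hne p⟩ ∈ dset Z ∧
          pick ⟨vv p • a, hne p⟩ • a = vv p • a := by
        simp only [pick, dif_pos hex]
        exact hex.choose_spec
      exact E.swap_unique (Ne.symm (hne p)) hpick.1 hpick.2 (hvv p) rfl⟩)
  have hΦ : Function.Injective Φ := by
    intro p q hpq
    have h1 : vv p • a = vv q • a := congrArg (fun x => x.1.1) hpq
    have h2 : vv p * pick ⟨vv p • a, hne p⟩ = vv q * pick ⟨vv q • a, hne q⟩ :=
      congrArg (fun x => (x.2 : G)) hpq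
    have h3 : (⟨vv p • a, hne p⟩ : A) = ⟨vv q • a, hne q⟩ := Subtype.ext h1
    rw [h3] at h2
    have h4 : vv p = vv q := mul_right_cancel h2
    have hfp : ∀ p : A × Zs, vv p • p.1.1 = p.1.1 := by
      intro p
      conv_lhs => rw [← QuotientGroup.out_eq' p.1.1]
      conv_rhs => rw [← QuotientGroup.out_eq' p.1.1]
      rw [MulAction.Quotient.smul_coe, smul_eq_mul, QuotientGroup.eq]
      simp only [vv]
      have : (p.1.1.out * (p.2.1 : G) * p.1.1.out⁻¹ * p.1.1.out)⁻¹ * p.1.1.out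
          = (p.2.1 : G)⁻¹ := by group
      rw [this]
      exact inv_mem (E.hUM (E.hZU p.2.1.2))
    have hδ : p.1 = q.1 := Subtype.ext <| by
      have h5 : p.1.1 = (q.1.1.out : G ⧸ M) :=
        E.fix_unique q.2.1.2 q.2.2 (by
          have := hfp p
          rw [h4] at this
          exact this)
      rw [h5, QuotientGroup.out_eq']
    refine Prod.ext hδ (Subtype.ext (Subtype.ext ?_))
    have : p.1.1.out * (p.2.1 : G) * p.1.1.out⁻¹ = q.1.1.out * (q.2.1 : G) * q.1.1.out⁻¹ := h4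
    rw [hδ] at this
    exact mul_left_cancel (mul_right_cancel this)
  have h := Nat.card_le_card_of_injective Φ hΦ
  rw [Nat.card_prod, Nat.card_prod] at h
  exact Nat.le_of_mul_le_mul_left h hA

end Endgame

end H10.Shult
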