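import Cfsg.Agent.H10.Shult.Endgame
import Cfsg.Agent.H1.Cores

/-!
# The endgame of Shult's theorem: `Z` is central

`all_central` is the conclusion for a perfect group with central odd core; `uniq_of_closure`
supplies the hypothesis `Endgame.uniq` from `H83.Shult.Closure`.
-/

set_option autoImplicit false
set_option linter.style.haveILetI false
set_option linter.unusedSectionVars false

open Subgroup

namespace H10.Shult

variable {G : Type*} [Group G] [Finite G]

/-- `H83.Shult.Closure` gives uniqueness of fixed points, provided its hypotheses hold for the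
noncentral elements. -/
theorem uniq_of_closure {σ : MulAut G} {M K L S : Subgroup G} (C : H83.Shult.Closure σ M K L S)
    {e : G} (he : e ∈ S ⊓ L) (he1 : e ≠ 1) {g : G} (hg : g * e * g⁻¹ ∈ M) : g ∈ M := by
  have hp : IsPGroup 2 (zpowers (g * e * g⁻¹)) :=
    H83.Shult.isPGroup_zpowers_conj (H83.Shult.isPGroup_zpowers_of_mem C.pS he.1) g
  obtain ⟨m, hm, hmc⟩ := C.syl (zpowers (g * e * g⁻¹)) (zpowers_le.mpr hg) hp
  have h1 : (m * g) * e * (m * g)⁻¹ ∈ S := by
    have h2 := hmc _ (mem_zpowers (g * e * g⁻¹))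
    simpa [mul_assoc] using h2
  have := C.mem_of_conj he he1 h1
  simpa using mul_mem (inv_mem hm) this

theorem card_center_part_eq (Z : Subgroup G) :
    Nat.card Z = Nat.card {e : Z // (e : G) ∉ Subgroup.center G} +
      Nat.card ↥(Z ⊓ Subgroup.center G) := by
  classical
  haveI := Fintype.ofFinite Z
  have h1 : Nat.card ↥(Z ⊓ Subgroup.center G) =
      Nat.card {e : Z // ¬ (e : G) ∉ Subgroup.center G} :=
    Nat.card_congr ⟨fun x => ⟨⟨x, x.2.1⟩, not_not.mpr x.2.2⟩,
      fun x => ⟨x.1, x.1.2, not_not.mp x.2⟩, fun _ => rfl, fun _ => rfl⟩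
  rw [h1, ← Nat.card_sum]
  exact Nat.card_congr (Equiv.sumCompl fun e : Z => (e : G) ∉ Subgroup.center G).symm

/-- A normal subgroup of odd order over a central subgroup with at most two elements is central. -/
theorem le_center_of_odd_over (hO : Cfsg.pPrimeCore 2 G ≤ Subgroup.center G)
    (Z0 : Subgroup G) [Z0.Normal] (hZ0 : Z0 ≤ Subgroup.center G) (hsq : ∀ z ∈ Z0, z * z = 1)
    {g : G} (hg : QuotientGroup.mk' Z0 g ∈ Cfsg.pPrimeCore 2 (G ⧸ Z0)) :
    g ∈ Subgroup.center G := by
  classical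
  haveI := H1.pPrimeCore_normal' 2 (G ⧸ Z0)
  set N := (Cfsg.pPrimeCore 2 (G ⧸ Z0)).comap (QuotientGroup.mk' Z0) with hN
  haveI : N.Normal := Subgroup.Normal.comap inferInstance _
  have hmod : Odd (Nat.card (Cfsg.pPrimeCore 2 (G ⧸ Z0))) :=
    Nat.coprime_two_right.mp (H1.card_pPrimeCore_coprime 2 (G ⧸ Z0))
  set n := Nat.card (Cfsg.pPrimeCore 2 (G ⧸ Z0)) with hn
  -- `n`-th powers of elements of `N` lie in `Z0`
  have hpow : ∀ x ∈ N, x ^ n ∈ Z0 := by
    intro x hx
    rw [← QuotientGroup.eq_one_iff, ← QuotientGroup.mk'_apply, map_pow]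
    exact congrArg Subtype.val
      (pow_card_eq_one' (x := (⟨_, hx⟩ : Cfsg.pPrimeCore 2 (G ⧸ Z0))))
  have hZN : Z0 ≤ N := fun z hz => by
    rw [hN, mem_comap, QuotientGroup.mk'_apply, (QuotientGroup.eq_one_iff z).mpr hz]
    exact one_mem _
  set A := Z0.subgroupOf N with hA
  haveI : A.Normal := Subgroup.Normal.subgroupOf inferInstance N
  have hcardN : A.index = n := by
    have h1 := Subgroup.index_ker ((QuotientGroup.mk' Z0).comp N.subtype)
    have h2 : ((QuotientGroup.mk' Z0).comp N.subtype).ker = A := by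
      ext x
      simp [hA, MonoidHom.mem_ker, Subgroup.mem_subgroupOf]
    have h3 : ((QuotientGroup.mk' Z0).comp N.subtype).range = Cfsg.pPrimeCore 2 (G ⧸ Z0) := by
      rw [MonoidHom.range_comp, Subgroup.range_subtype, hN,
        Subgroup.map_comap_eq_self_of_surjective (QuotientGroup.mk'_surjective Z0)]
    rw [h2, h3] at h1
    exact h1
  have hAp : IsPGroup 2 A := fun x => ⟨1, Subtype.ext (Subtype.ext (by
    simpa [pow_two] using hsq _ x.2))⟩
  have hcop : (Nat.card A).Coprime A.index := by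
    haveI : Fact (Nat.Prime 2) := ⟨Nat.prime_two⟩
    obtain ⟨k, hk⟩ := IsPGroup.iff_card.mp hAp
    rw [hk, hcardN]
    exact Nat.Coprime.pow_left _ (Nat.coprime_two_left.mpr hmod)
  obtain ⟨H, hH⟩ := Subgroup.exists_right_complement'_of_coprime hcop
  have hHn : Nat.card H = n := hH.symm.index_eq_card.symm.trans hcardN
  have hpowH : ∀ h ∈ H, h ^ n = 1 := fun h hh => by
    rw [← hHn]
    exact congrArg Subtype.val (pow_card_eq_one' (x := (⟨h, hh⟩ : H)))
  have hsplit : ∀ x : N, ∃ z ∈ A, ∃ h ∈ H, x = z * h ∧ x ^ n = z := by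
    intro x
    obtain ⟨⟨⟨z, hz⟩, ⟨h, hh⟩⟩, rfl⟩ := hH.2 x
    refine ⟨z, hz, h, hh, rfl, ?_⟩
    have hc : Commute z h := Subtype.ext
      ((Subgroup.mem_center_iff.mp (hZ0 (Subgroup.mem_subgroupOf.mp hz)) (h : G)).symm)
    obtain ⟨k, hk⟩ := hmod
    show (z * h) ^ n = z
    rw [hc.mul_pow, hpowH h hh, mul_one, hk, pow_succ, pow_mul,
      show z ^ 2 = 1 from Subtype.ext (by simpa [pow_two] using hsq _ hz), one_pow, one_mul]
  set H' := H.map N.subtype with hH'
  haveI : H'.Normal := by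
    refine ⟨?_⟩
    rintro _ ⟨h, hh, rfl⟩ a
    set y : N := ⟨a * (h : G) * a⁻¹, Subgroup.Normal.conj_mem inferInstance _ h.2 a⟩
    refine ⟨y, ?_, rfl⟩
    obtain ⟨z, hz, h', hh', hy, hyn⟩ := hsplit y
    have : y ^ n = 1 := Subtype.ext (by
      have := congrArg Subtype.val (hpowH h hh)
      simp only [Subgroup.coe_pow, Subgroup.coe_one] at this ⊢
      rw [conj_pow, this]; group)
    rw [this] at hyn
    rw [hy, ← hyn, one_mul]
    exact hh'
  have hH'O : H' ≤ Subgroup.center G := by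
    refine le_trans (H1.le_pPrimeCore ?_) hO
    rw [hH', Subgroup.card_map_of_injective N.subtype_injective, hHn]
    exact Nat.coprime_two_right.mpr hmod
  obtain ⟨z, hz, h, hh, hgx, -⟩ := hsplit ⟨g, hg⟩
  have : g = (z : G) * (h : G) := congrArg Subtype.val hgx
  rw [this]
  exact mul_mem (hZ0 (Subgroup.mem_subgroupOf.mp hz)) (hH'O ⟨h, hh, rfl⟩)

namespace Endgame

variable {σ : MulAut G} {r : ℕ} {M U Z : Subgroup G}

/-- In a perfect group with central odd core `Z` is central if its central part has at most two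
elements. -/
theorem all_central (E : Endgame σ r M U Z) (hperf : commutator G = ⊤)
    (hO : Cfsg.pPrimeCore 2 G ≤ Subgroup.center G)
    (h2 : Nat.card ↥(Z ⊓ Subgroup.center G) ≤ 2) : Z ≤ Subgroup.center G := by
  classical
  intro e he
  by_contra hec
  set Z0 := Z ⊓ Subgroup.center G with hZ0
  haveI hZ0n : Z0.Normal := ⟨fun z hz g => by
    rw [Subgroup.mem_center_iff.mp hz.2 g, mul_inv_cancel_right]; exact hz⟩
  have hcard := E.card_le
  let Zs := {e : Z // (e : G) ∉ Subgroup.center G}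
  -- noncentral elements of `Z` agree modulo `Z0`
  have hsame : ∀ f ∈ Z, f ∉ Subgroup.center G → e * f ∈ Z0 := by
    intro f hf hfc
    let φ : ↥Z0 → Zs := fun z => ⟨⟨e * z, mul_mem he z.2.1⟩, fun h => hec (by
      simpa using mul_mem h (inv_mem z.2.2))⟩
    have hφ : Function.Injective φ := fun a b hab => Subtype.ext (mul_left_cancel
      (congrArg (fun x : Zs => ((x.1 : Z) : G)) hab))
    have hbij := hφ.bijective_of_nat_card_le hcard
    obtain ⟨z, hz⟩ := hbij.2 ⟨⟨f, hf⟩, hfc⟩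
    have : e * (z : G) = f := congrArg (fun x : Zs => ((x.1 : Z) : G)) hz
    rw [← this, ← mul_assoc, E.sqZ e he, one_mul]
    exact z.2
  set π := QuotientGroup.mk' Z0 with hπ
  have hiso : Cfsg.IsIsolatedInvolution (π e) := by
    refine ⟨orderOf_eq_prime (by rw [← map_pow, pow_two, E.sqZ e he, map_one]) ?_, ?_⟩
    · rw [hπ, QuotientGroup.mk'_apply, Ne, QuotientGroup.eq_one_iff]
      exact fun h => hec h.2
    intro g' hg'
    obtain ⟨g, rfl⟩ := QuotientGroup.mk'_surjective Z0 g'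
    rw [← map_inv, ← map_mul, ← map_mul] at hg' ⊢
    set e' := g * e * g⁻¹ with he'
    have hk : (e * e')⁻¹ * (e' * e) ∈ Z0 := by
      rw [← QuotientGroup.eq]
      have := hg'.eq
      rw [← map_mul, ← map_mul] at this
      exact this
    have he'2 : e'⁻¹ = e' := inv_eq_of_mul_eq_one_right (by
      rw [he', show g * e * g⁻¹ * (g * e * g⁻¹) = g * (e * e) * g⁻¹ by group, E.sqZ e he]; group)
    have hei : e⁻¹ = e := inv_eq_of_mul_eq_one_right (E.sqZ e he)
    have h1 : e' * e * e'⁻¹ ∈ Z := by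
      have h3 : e' * e * e'⁻¹ = ((e * e')⁻¹ * (e' * e)) * e := by
        set k := (e * e')⁻¹ * (e' * e) with hkd
        have hk' : e' * e = e * e' * k := by rw [hkd]; group
        rw [hk', mul_assoc, mul_assoc,
          show k * e'⁻¹ = e'⁻¹ * k from (Subgroup.mem_center_iff.mp hk.2 e'⁻¹).symm,
          ← mul_assoc e', mul_inv_cancel, one_mul]
        exact Subgroup.mem_center_iff.mp hk.2 e
      rw [h3]
      exact mul_mem hk.1 he
    have he'M : e' ∈ M := E.uniq e he hec e' (E.hUM (E.hZU h1))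
    obtain ⟨hZ', hc'⟩ := E.mem_Z ⟨g, e, he, hec, rfl⟩ he'M
    rw [QuotientGroup.mk'_apply, QuotientGroup.mk'_apply, QuotientGroup.eq]
    have := hsame e' hZ' hc'
    have h4 : e'⁻¹ * e = (e * e')⁻¹ := by rw [mul_inv_rev e e', hei]
    show e'⁻¹ * e ∈ Z0
    rw [h4]
    exact inv_mem this
  have hZC := H85.zStar hiso
  have hcomm : ∀ g : G, e * g * e⁻¹ * g⁻¹ ∈ Subgroup.center G := by
    intro g
    refine le_center_of_odd_over hO Z0 (fun z hz => hz.2) (fun z hz => E.sqZ z hz.1) ?_
    simpa [hπ] using hZC (π g)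
  let f : G →* ↥(Subgroup.center G) :=
    { toFun := fun g => ⟨e * g * e⁻¹ * g⁻¹, hcomm g⟩
      map_one' := Subtype.ext (by simp)
      map_mul' := fun a b => Subtype.ext (by
        show e * (a * b) * e⁻¹ * (a * b)⁻¹ = e * a * e⁻¹ * a⁻¹ * (e * b * e⁻¹ * b⁻¹)
        calc e * (a * b) * e⁻¹ * (a * b)⁻¹ = e * a * e⁻¹ * ((e * b * e⁻¹ * b⁻¹) * a⁻¹) := by group
          _ = e * a * e⁻¹ * (a⁻¹ * (e * b * e⁻¹ * b⁻¹)) := by
            rw [Subgroup.mem_center_iff.mp (hcomm b) a⁻¹]
          _ = _ := by group) }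
  have hf : commutator G ≤ f.ker := by
    rw [_root_.commutator_def, Subgroup.commutator_le]
    intro a _ b _
    rw [MonoidHom.mem_ker, map_commutatorElement, commutatorElement_eq_one_iff_commute]
    exact Subtype.ext (Subgroup.mem_center_iff.mp (f b).2 _)
  refine hec (Subgroup.mem_center_iff.mpr fun g => ?_)
  have hg : f g = 1 := hf (hperf ▸ mem_top g)
  have hg' : e * g * e⁻¹ * g⁻¹ = 1 := congrArg Subtype.val hg
  calc g * e = (e * g * e⁻¹ * g⁻¹) * (g * e) := by rw [hg', one_mul]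
    _ = e * g := by group

end Endgame

end H10.Shult
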