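import Cfsg.Agent.H85.Shult.Reduce

/-!
From a faithful irreducible module for `X = GR` over any field to the setting of an automorphism of
`G` acting fixed-point-freely on a module over an algebraically closed field: statement S3041 from
its irreducible core.
-/

set_option autoImplicit false
set_option linter.all false

open Subgroup
open scoped commutatorElement
open H85.Shult (Inv disp Rep)

namespace H10.Shult.Extend

universe u v w

/-- An isomorphism of groups preserves special groups. -/
theorem isSpecial_equiv {P P' : Type*} [Group P] [Group P'] {p : ℕ} (e : P ≃* P')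
    (hP : Cfsg.IsSpecial p P) : Cfsg.IsSpecial p P' := by
  obtain ⟨hp, hfr, hcm⟩ := hP
  have hc : (Subgroup.center P).map (e : P →* P') = Subgroup.center P' := by
    ext b
    simp only [Subgroup.mem_map, Subgroup.mem_center_iff, MonoidHom.coe_coe]
    constructor
    · rintro ⟨a, ha, rfl⟩ g
      obtain ⟨g', rfl⟩ := e.surjective g
      rw [← map_mul, ← map_mul, ha g']
    · intro hb
      obtain ⟨a, rfl⟩ := e.surjective b
      exact ⟨a, fun g => e.injective (by rw [map_mul, map_mul, hb]), rfl⟩
  refine ⟨hp.of_equiv e, ?_, ?_⟩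
  · rw [← hc, ← hfr]
    refine le_antisymm (fun b hb => ?_) ?_
    · exact ⟨e.symm b,
        frattini_le_comap_frattini_of_surjective (φ := (e.symm : P' →* P)) e.symm.surjective hb,
        by simp⟩
    · exact Subgroup.map_le_iff_le_comap.mpr (frattini_le_comap_frattini_of_surjective e.surjective)
  · rw [← hc, ← hcm, commutator_def, commutator_def, Subgroup.map_commutator,
      Subgroup.map_top_of_surjective _ e.surjective]

/-- In a faithful irreducible module in characteristic `p` a normal `p`-subgroup is trivial. -/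
theorem eq_bot_of_normal_p {X : Type*} [Group X] [Finite X] {k : Type*} [Field k] {p : ℕ}
    [Fact p.Prime] [CharP k p] {V : Type*} [AddCommGroup V] [Module k V] [Nontrivial V]
    (ρ : Representation k X V) (hfaith : Function.Injective ρ)
    (hirr : ∀ W : Submodule k V, (∀ x : X, W.map (ρ x) ≤ W) → W = ⊥ ∨ W = ⊤)
    (N : Subgroup X) [hn : N.Normal] (hN : IsPGroup p N) : N = ⊥ := by
  obtain ⟨v, hv0, hv⟩ := H35.exists_fixed_vector (F := k) hN ((ρ : X →* Module.End k V).comp N.subtype)
  let W : Submodule k V := ⨅ n : N, LinearMap.ker (ρ n - 1)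
  have hW : ∀ w, w ∈ W ↔ ∀ n ∈ N, ρ n w = w := fun w => by
    simp [W, Submodule.mem_iInf, sub_eq_zero]
  rcases hirr W (fun g => by
      rintro _ ⟨w, hw, rfl⟩
      rw [SetLike.mem_coe, hW] at hw
      rw [hW]
      intro n hn'
      have e : n * g = g * (g⁻¹ * n * g) := by group
      rw [← Module.End.mul_apply, ← map_mul, e, map_mul, Module.End.mul_apply,
        hw _ (by simpa using hn.conj_mem n hn' g⁻¹)]) with h | h
  · have : v ∈ W := (hW v).mpr fun n hn' => hv ⟨n, hn'⟩
    rw [h, Submodule.mem_bot] at this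
    exact absurd this hv0
  · rw [eq_bot_iff_forall]
    intro n hn'
    apply hfaith
    rw [map_one]
    exact LinearMap.ext fun w => (hW w).mp (h ▸ Submodule.mem_top) n hn'

end H10.Shult.Extend

namespace H10.Shult

universe u v w

open Extend in
/-- Statement S3041 from its irreducible core over the algebraic closure. -/
theorem shult_of_core {X : Type u} [Group X] [Finite X] (G R : Subgroup X) [G.Normal]
    (hX : G ⊔ R = ⊤) (r : ℕ) (hr : r.Prime) (hR : Nat.card R = r) (hcop : ¬ r ∣ Nat.card G)
    {k : Type v} [Field k] {p : ℕ} [Fact p.Prime] [CharP k p]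
    {V : Type w} [AddCommGroup V] [Module k V] [FiniteDimensional k V] [Nontrivial V]
    (hcore : ∀ n, H85.Shult.CoreUpTo.{u, v} (AlgebraicClosure k) r n)
    (ρ : Representation k X V) (hfaith : Function.Injective ρ)
    (hirr : ∀ W : Submodule k V, (∀ x : X, W.map (ρ x) ≤ W) → W = ⊥ ∨ W = ⊤)
    (hfix : ∀ v : V, (∀ x ∈ R, ρ x v = v) → v = 0) :
    ⁅G, R⁆ = ⊥ ∨
      ((∃ m : ℕ, r = 2 ^ m + 1) ∧ ¬ IsMulCommutative ↥⁅G, R⁆ ∧ Cfsg.IsSpecial 2 ↥⁅G, R⁆) := by
  classical
  haveI : Fact r.Prime := ⟨hr⟩
  haveI : IsCyclic R := isCyclic_of_prime_card hR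
  obtain ⟨⟨s, hsR⟩, hsg⟩ := IsCyclic.exists_generator (α := R)
  have hRs : R ≤ zpowers s := fun x hx => by
    obtain ⟨n, hn⟩ := mem_zpowers_iff.mp (hsg ⟨x, hx⟩)
    exact ⟨n, by simpa using congrArg Subtype.val hn⟩
  have hsr : s ^ r = 1 := by
    have := congrArg Subtype.val (pow_card_eq_one' (x := (⟨s, hsR⟩ : R)))
    rwa [SubmonoidClass.coe_pow, hR, Subgroup.coe_one] at this
  set σ : MulAut G := MulAut.conjNormal s with hσdef
  have hσa : ∀ g : G, ((σ g : G) : X) = s * g * s⁻¹ := fun g => MulAut.conjNormal_apply s g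
  have hσ : σ ^ r = 1 := by rw [hσdef, ← map_pow, hsr, map_one]
  -- the linear algebra
  set d := Module.finrank k V
  set b := Module.finBasis k V
  haveI : Nonempty (Fin d) := ⟨⟨0, Module.finrank_pos⟩⟩
  haveI : CharP (AlgebraicClosure k) p :=
    charP_of_injective_algebraMap (algebraMap k (AlgebraicClosure k)).injective p
  let Φ : Module.End k V →+* Module.End (AlgebraicClosure k) (Fin d → AlgebraicClosure k) :=
    ((Matrix.toLinAlgEquiv' (R := AlgebraicClosure k) (n := Fin d)).toRingEquiv.toRingHom).comp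
      ((algebraMap k (AlgebraicClosure k)).mapMatrix.comp
        (LinearMap.toMatrixAlgEquiv b).toRingEquiv.toRingHom)
  have hΦ : Function.Injective Φ := by
    intro x y hxy
    have h1 := (Matrix.toLinAlgEquiv' (R := AlgebraicClosure k) (n := Fin d)).injective hxy
    have h2 := Matrix.map_injective (algebraMap k (AlgebraicClosure k)).injective h1
    exact (LinearMap.toMatrixAlgEquiv b).injective h2
  let ρ' : G →* Module.End (AlgebraicClosure k) (Fin d → AlgebraicClosure k) :=
    Φ.toMonoidHom.comp ((ρ : X →* Module.End k V).comp G.subtype)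
  let T := Φ (ρ s)
  have hfix0 : ∀ v, ρ s v = v → v = 0 := by
    intro v hv
    refine hfix v fun x hx => ?_
    obtain ⟨n, rfl⟩ := (mem_powers_iff_mem_zpowers).mpr (hRs hx)
    show ρ (s ^ n) v = v
    induction n with
    | zero => simp
    | succ n ih =>
      rw [pow_succ, map_mul, Module.End.mul_apply, hv]
      exact ih (pow_mem hsR n)
  have hunit : IsUnit (ρ s - 1 : Module.End k V) := by
    refine (LinearMap.isUnit_iff_ker_eq_bot _).mpr (LinearMap.ker_eq_bot'.mpr fun v hv => ?_)
    exact hfix0 v (sub_eq_zero.mp hv)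
  have hR' : Rep σ r ρ' T :=
    { hr := hr
      hσ := hσ
      hcop := hcop
      pow := by rw [← map_pow, ← map_pow, hsr, map_one, map_one]
      fix := fun v hv => by
        have hu := hunit.map Φ
        rw [map_sub, map_one] at hu
        have hinj := ((Module.End.isUnit_iff _).mp hu).injective
        refine hinj (a₁ := v) (a₂ := 0) ?_
        show T v - v = _
        rw [hv, sub_self, map_zero]
      comm := fun g => by
        show Φ (ρ s) * Φ (ρ (g : X)) = Φ (ρ ((σ g : G) : X)) * Φ (ρ s)
        rw [← map_mul, ← map_mul, ← map_mul, ← map_mul, hσa, inv_mul_cancel_right]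
      inj := hΦ.comp (hfaith.comp G.subtype_injective) }
  have hnormal : ∀ K : Subgroup G, K.Normal → Inv σ K → (K.map G.subtype).Normal := by
    intro K hK hKi
    rw [← Subgroup.normalizer_eq_top_iff, eq_top_iff, ← hX, sup_le_iff]
    refine ⟨fun g hg => Subgroup.mem_normalizer_fintype ?_, hRs.trans (zpowers_le.mpr
      (Subgroup.mem_normalizer_fintype ?_))⟩
    · rintro _ ⟨a, ha, rfl⟩
      exact ⟨⟨g, hg⟩ * a * (⟨g, hg⟩ : G)⁻¹, hK.conj_mem a ha _, rfl⟩
    · rintro _ ⟨a, ha, rfl⟩
      exact ⟨σ a, hKi a ha, hσa a⟩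
  obtain ⟨K, hKn, hKi, hKp, hKd⟩ :=
    H85.Shult.exists_p_core (p := p) (hcore (Nat.card G)) le_rfl hR'
  haveI := hnormal K hKn hKi
  have hK : K = ⊥ := by
    have := eq_bot_of_normal_p ρ hfaith hirr (K.map G.subtype) (hKp.map _)
    rwa [map_eq_bot_iff_of_injective _ G.subtype_injective] at this
  set D := disp σ (⊤ : Subgroup G) with hD
  have hD2 : IsPGroup 2 D := fun x => by
    obtain ⟨j, hj⟩ := hKd x x.2
    rw [hK, mem_bot] at hj
    exact ⟨j, Subtype.ext (by simpa using hj)⟩
  have hDi : Inv σ D := H85.Shult.inv_disp (H85.Shult.inv_top σ)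
  have hDn : D.Normal := by
    rw [← Subgroup.normalizer_eq_top_iff, eq_top_iff]
    exact H85.Shult.le_normalizer_disp
  haveI hD'n := hnormal D hDn hDi
  have hcomm : ⁅G, R⁆ = D.map G.subtype := by
    refine le_antisymm ?_ ?_
    · rw [Subgroup.commutator_le]
      intro g hg x hx
      obtain ⟨n, rfl⟩ := (mem_powers_iff_mem_zpowers).mpr (hRs hx)
      show ⁅g, s ^ n⁆ ∈ _
      clear hx
      induction n with
      | zero => simp [commutatorElement_def]
      | succ n ih =>
        have h1 : ⁅g, s⁆ ∈ D.map G.subtype := by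
          refine ⟨(σ ⟨g, hg⟩ * (⟨g, hg⟩ : G)⁻¹)⁻¹, inv_mem (H85.Shult.subset_disp (mem_top _)), ?_⟩
          rw [map_inv, map_mul, map_inv, Subgroup.subtype_apply, Subgroup.subtype_apply, hσa,
            commutatorElement_def]
          group
        have e : ⁅g, s ^ (n + 1)⁆ = ⁅g, s ^ n⁆ * (s ^ n * ⁅g, s⁆ * (s ^ n)⁻¹) := by
          rw [commutatorElement_def, commutatorElement_def, commutatorElement_def, pow_succ]; group
        rw [e]
        exact mul_mem ih (hD'n.conj_mem _ h1 _)
    · rw [hD, disp, MonoidHom.map_closure, closure_le]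
      rintro _ ⟨_, ⟨h, -, rfl⟩, rfl⟩
      have e : G.subtype (σ h * h⁻¹) = (⁅(h : X), s⁆)⁻¹ := by
        rw [map_mul, map_inv, Subgroup.subtype_apply, Subgroup.subtype_apply, hσa,
          commutatorElement_def]
        group
      rw [e]
      exact inv_mem (commutator_mem_commutator h.2 hsR)
  by_cases hDbot : D = ⊥
  · exact Or.inl (by rw [hcomm, hDbot, Subgroup.map_bot])
  refine Or.inr ?_
  have hgen : disp σ D = D := H85.Shult.disp_disp hr hσ hcop (H85.Shult.inv_top σ)
  have hp2 : p ≠ 2 := by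
    rintro rfl
    have := eq_bot_of_normal_p ρ hfaith hirr (D.map G.subtype) (hD2.map _)
    exact hDbot ((map_eq_bot_iff_of_injective _ G.subtype_injective).mp this)
  have hmov : ∃ x ∈ D, σ x ≠ x := by
    by_contra hall
    push Not at hall
    refine hDbot ?_
    rw [← hgen, eq_bot_iff, disp, closure_le]
    rintro _ ⟨h, hh, rfl⟩
    simp [hall h hh]
  obtain ⟨-, hm, a, ha, c, hc, hac⟩ := hR'.fermat Nat.prime_two hp2 hD2 hDi hmov
  have e : ↥D ≃* ↥⁅G, R⁆ :=
    (D.equivMapOfInjective _ G.subtype_injective).trans (MulEquiv.subgroupCongr hcomm.symm)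
  refine ⟨hm, fun hcm => hac ?_, isSpecial_equiv e (hR'.special hp2 hD2 hDi hgen).1⟩
  have := e.injective (show e (⟨a, ha⟩ * ⟨c, hc⟩) = e (⟨c, hc⟩ * ⟨a, ha⟩) by
    rw [map_mul, map_mul]; exact hcm.is_comm.comm _ _)
  exact congrArg Subtype.val this

end H10.Shult
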