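import Mathlib
import Cfsg.Agent.H85.Shult.Setting
import Cfsg.Agent.H41.Shult.Coprime

/-!
Basic lemmas for the rank one case of the fixed point theorem of Shult type (statement S3041):
conjugates of invariant subgroups, moved parts, Sylow subgroups and coprime commutators.
-/

set_option autoImplicit false
set_option linter.all false

open Subgroup
open H85.Shult (Inv disp fixed Cfg)

namespace H10.Shult.Rank

variable {G : Type*} [Group G] {σ : MulAut G} {r : ℕ}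

/-- The conjugate `g H g⁻¹`. -/
def cj (g : G) (H : Subgroup G) : Subgroup G := H.map (MulAut.conj g).toMonoidHom

theorem mem_cj {g x : G} {H : Subgroup G} : x ∈ cj g H ↔ g⁻¹ * x * g ∈ H := by
  constructor
  · rintro ⟨h, hh, rfl⟩
    have : g⁻¹ * (g * h * g⁻¹) * g = h := by group
    simpa [this, mul_assoc] using hh
  · intro h
    exact ⟨_, h, show g * (g⁻¹ * x * g) * g⁻¹ = x by group⟩

theorem conj_mem_cj {g x : G} {H : Subgroup G} (hx : x ∈ H) : g * x * g⁻¹ ∈ cj g H :=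
  ⟨x, hx, rfl⟩

theorem card_cj (g : G) (H : Subgroup G) : Nat.card (cj g H) = Nat.card H :=
  card_map_of_injective (MulAut.conj g).injective

theorem cj_le {g : G} {H K : Subgroup G} (h : ∀ x ∈ H, g * x * g⁻¹ ∈ K) : cj g H ≤ K := by
  rintro _ ⟨x, hx, rfl⟩
  exact h x hx

theorem inv_cj {g : G} (hg : σ g = g) {H : Subgroup G} (hH : Inv σ H) : Inv σ (cj g H) := by
  intro x hx
  rw [mem_cj] at hx ⊢
  have := hH _ hx
  rwa [map_mul, map_mul, map_inv, hg] at this

theorem cj_mono {g : G} {H K : Subgroup G} (h : H ≤ K) : cj g H ≤ cj g K := map_mono h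

theorem disp_cj {g : G} (hg : σ g = g) (H : Subgroup G) :
    disp σ (cj g H) = cj g (disp σ H) := by
  have e : ∀ y : G, σ (g * y * g⁻¹) * (g * y * g⁻¹)⁻¹ = g * (σ y * y⁻¹) * g⁻¹ := by
    intro y
    rw [map_mul, map_mul, map_inv, hg]; group
  rw [cj, cj, disp, disp, MonoidHom.map_closure]
  congr 1
  ext x
  constructor
  · rintro ⟨_, ⟨y, hy, rfl⟩, rfl⟩
    exact ⟨_, ⟨y, hy, rfl⟩, (e y).symm⟩
  · rintro ⟨_, ⟨y, hy, rfl⟩, rfl⟩
    exact ⟨_, ⟨y, hy, rfl⟩, e y⟩

theorem inv_sup {H K : Subgroup G} (hH : Inv σ H) (hK : Inv σ K) : Inv σ (H ⊔ K) := by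
  intro x hx
  have : (H ⊔ K).map σ.toMonoidHom ≤ H ⊔ K := by
    rw [Subgroup.map_sup]
    refine sup_le_sup ?_ ?_
    · rintro _ ⟨y, hy, rfl⟩; exact hH y hy
    · rintro _ ⟨y, hy, rfl⟩; exact hK y hy
  exact this (mem_map_of_mem _ hx)

theorem inv_inf {H K : Subgroup G} (hH : Inv σ H) (hK : Inv σ K) : Inv σ (H ⊓ K) :=
  fun x hx => ⟨hH x hx.1, hK x hx.2⟩

theorem inv_zpowers {x : G} (hx : σ x = x) : Inv σ (zpowers x) := by
  intro y hy
  obtain ⟨i, rfl⟩ := mem_zpowers_iff.mp hy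
  rw [map_zpow, hx]
  exact zpow_mem_zpowers x i

theorem inv_centralizer {x : G} (hx : σ x = x) : Inv σ (centralizer ({x} : Set G)) := by
  intro y hy
  rw [mem_centralizer_singleton_iff] at hy ⊢
  calc σ y * x = σ y * σ x := by rw [hx]
    _ = σ (x * y) := by rw [← map_mul, hy]
    _ = x * σ y := by rw [map_mul, hx]

theorem pow_fixed {x : G} (hx : σ x = x) (k : ℕ) : (σ ^ k) x = x := by
  induction k with
  | zero => rfl
  | succ n ih => rw [pow_succ, MulAut.mul_apply, hx, ih]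

theorem pow_mem {H : Subgroup G} (hH : Inv σ H) {x : G} (hx : x ∈ H) (k : ℕ) : (σ ^ k) x ∈ H := by
  induction k with
  | zero => exact hx
  | succ n ih => rw [pow_succ', MulAut.mul_apply]; exact hH _ ih

variable [Finite G]

theorem mem_normalizer_of_conj {T : Subgroup G} {g : G} (h : ∀ t ∈ T, g * t * g⁻¹ ∈ T) :
    g ∈ normalizer (T : Set G) := by
  refine mem_normalizer_iff.mpr fun x => ⟨h x, fun hx => ?_⟩
  have hc : cj g T = T := eq_of_le_of_card_ge (cj_le h) (card_cj g T).ge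
  rw [← hc, mem_cj] at hx
  simpa [mul_assoc] using hx

theorem inv_normalizer {T : Subgroup G} (hT : Inv σ T) : Inv σ (normalizer (T : Set G)) := by
  intro n hn
  refine mem_normalizer_iff.mpr fun x => ?_
  obtain ⟨y, rfl⟩ := σ.surjective x
  have hi : ∀ z : G, σ z ∈ T ↔ z ∈ T := fun z => H41.Shult.SInv.mem_iff (H := T) hT
  rw [← map_inv, ← map_mul, ← map_mul, hi, hi]
  exact mem_normalizer_iff.mp hn y

/-- Every element of an invariant subgroup is a moved element times a fixed one. -/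
theorem exists_disp_mul (hr : r.Prime) (hσ : σ ^ r = 1) (hcop : ¬ r ∣ Nat.card G) {H : Subgroup G}
    (hH : Inv σ H) {h : G} (hh : h ∈ H) :
    ∃ d ∈ disp σ H, ∃ f ∈ H, σ f = f ∧ h = d * f := by
  have hn := H85.Shult.le_normalizer_disp (σ := σ) (H := H)
  have hg : h⁻¹ * σ h ∈ disp σ H := by
    have := (mem_normalizer_iff.mp (hn (inv_mem hh)) _).mp (H85.Shult.subset_disp (σ := σ) hh)
    simpa [mul_assoc] using this
  obtain ⟨e, he, hf⟩ := H41.Shult.exists_fixed_coset hr hσ hcop (H85.Shult.inv_disp hH) hg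
  refine ⟨h * e⁻¹ * h⁻¹, ?_, h * e, mul_mem hh (H85.Shult.disp_le hH he), hf, by group⟩
  exact (mem_normalizer_iff.mp (hn hh) _).mp (inv_mem he)

theorem disp_disp (hr : r.Prime) (hσ : σ ^ r = 1) (hcop : ¬ r ∣ Nat.card G) {H : Subgroup G}
    (hH : Inv σ H) : disp σ (disp σ H) = disp σ H := by
  refine le_antisymm (H85.Shult.disp_mono (H85.Shult.disp_le hH)) ?_
  conv_lhs => rw [disp]
  rw [closure_le]
  rintro _ ⟨h, hh, rfl⟩
  obtain ⟨d, hd, f, -, hf, rfl⟩ := exists_disp_mul hr hσ hcop hH hh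
  have e : σ (d * f) * (d * f)⁻¹ = σ d * d⁻¹ := by rw [map_mul, hf]; group
  show σ (d * f) * (d * f)⁻¹ ∈ _
  rw [e]
  exact H85.Shult.subset_disp hd

/-- A fixed element carries an invariant 2-subgroup into a given invariant Sylow 2-subgroup. -/
theorem exists_fixed_conj_le (hr : r.Prime) (hσ : σ ^ r = 1) (hcop : ¬ r ∣ Nat.card G)
    {H P T : Subgroup G} (hH : Inv σ H) (hP : Inv σ P) (hPs : H41.Shult.IsSylTwo H P)
    (hT : Inv σ T) (hTH : T ≤ H) (hT2 : IsPGroup 2 T) :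
    ∃ k ∈ H, σ k = k ∧ cj k T ≤ P := by
  obtain ⟨P', hP'i, hTP', hP's⟩ := H41.Shult.exists_inv_syl_ge hr hσ hcop hH hT hTH hT2
  obtain ⟨h, hh, hc⟩ := hPs.2.2 P' hP's.1 hP's.2.1
  have hcard : Nat.card P' = Nat.card P :=
    le_antisymm (hPs.card_le hP's.1 hP's.2.1) (hP's.card_le hPs.1 hPs.2.1)
  obtain ⟨k, hk, hkf, hkc⟩ := H41.Shult.exists_fixed_conj hr hσ hcop hH hP'i hP hcard hh hc
  exact ⟨k, hk, hkf, cj_le fun t ht => hkc t (hTP' ht)⟩

theorem isSylTwo_of_index {S : Subgroup G} (hS : IsPGroup 2 S) (hi : ¬ 2 ∣ S.index) :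
    H41.Shult.IsSylTwo ⊤ S := by
  haveI : Fact (Nat.Prime 2) := ⟨Nat.prime_two⟩
  refine ⟨le_top, hS, fun T _ hT => ?_⟩
  obtain ⟨T', hT'⟩ := hT.exists_le_sylow
  obtain ⟨g, hg⟩ := MulAction.exists_smul_eq G T' (hS.toSylow hi)
  refine ⟨g, mem_top g, fun t ht => ?_⟩
  have : g * t * g⁻¹ ∈ ((g • T' : Sylow 2 G) : Subgroup G) := ⟨t, hT' ht, rfl⟩
  rw [hg] at this
  exact this

omit [Finite G] in
theorem eq_one_of_two_p {p : ℕ} (hp : p.Prime) (hp2 : p ≠ 2) {K P : Subgroup G}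
    (hK : IsPGroup p K) (hP : IsPGroup 2 P) {x : G} (hxK : x ∈ K) (hxP : x ∈ P) : x = 1 := by
  obtain ⟨a, ha⟩ := hK ⟨x, hxK⟩
  obtain ⟨b, hb⟩ := hP ⟨x, hxP⟩
  have h1 : x ^ p ^ a = 1 := by simpa using congrArg Subtype.val ha
  have h2 : x ^ 2 ^ b = 1 := by simpa using congrArg Subtype.val hb
  rw [← orderOf_dvd_iff_pow_eq_one] at h1 h2
  exact orderOf_eq_one_iff.mp (Nat.eq_one_of_dvd_coprimes
    (Nat.Coprime.pow a b ((Nat.coprime_primes hp Nat.prime_two).mpr hp2)) h1 h2)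

omit [Finite G] in
/-- A 2-element `y` normalising the `p`-group `K` commutes with every `κ ∈ K` for which
`κ y κ⁻¹` lies in the same 2-group. -/
theorem conj_eq_self {p : ℕ} (hp : p.Prime) (hp2 : p ≠ 2) {K P : Subgroup G} (hK : IsPGroup p K)
    (hP : IsPGroup 2 P) {k y : G} (hk : k ∈ K) (hy : y ∈ P) (hyK : y ∈ normalizer (K : Set G))
    (h : k * y * k⁻¹ ∈ P) : k * y * k⁻¹ = y := by
  have h1 : k * y * k⁻¹ * y⁻¹ ∈ P := mul_mem h (inv_mem hy)
  have h2 : k * y * k⁻¹ * y⁻¹ ∈ K := by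
    have := mul_mem hk ((mem_normalizer_iff.mp hyK _).mp (inv_mem hk))
    simpa [mul_assoc] using this
  exact mul_inv_eq_one.mp (eq_one_of_two_p hp hp2 hK hP h2 h1)

/-- A group in which every element has a 2-power in the normal subgroup `K` is `K P` for a Sylow
2-subgroup `P`. -/
theorem exists_decomp {D K P : Subgroup G} (hDK : D ≤ normalizer (K : Set G))
    (hP : H41.Shult.IsSylTwo D P) (hpow : ∀ x ∈ D, ∃ n : ℕ, x ^ 2 ^ n ∈ K) {d : G} (hd : d ∈ D) :
    ∃ k ∈ K, ∃ s ∈ P, d = k * s := by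
  classical
  haveI : Fact (Nat.Prime 2) := ⟨Nat.prime_two⟩
  set K' := K.subgroupOf D with hK'
  haveI : K'.Normal := normal_subgroupOf_of_le_normalizer hDK
  set P' := P.subgroupOf D with hP'
  have hq : IsPGroup 2 (D ⧸ K') := by
    intro x
    obtain ⟨⟨y, hy⟩, rfl⟩ := QuotientGroup.mk_surjective x
    obtain ⟨n, hn⟩ := hpow y hy
    refine ⟨n, ?_⟩
    rw [← QuotientGroup.mk_pow, QuotientGroup.eq_one_iff, hK', mem_subgroupOf]
    simpa using hn
  obtain ⟨a, ha⟩ := IsPGroup.iff_card.mp hq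
  have hP'2 : IsPGroup 2 P' := hP.2.1.of_equiv (subgroupOfEquivOfLe hP.1).symm
  obtain ⟨T, hT⟩ := hP'2.exists_le_sylow
  have hPT : P' = (T : Subgroup D) := by
    refine eq_of_le_of_card_ge hT ?_
    rw [hP', Nat.card_congr (subgroupOfEquivOfLe hP.1).toEquiv,
      ← card_map_of_injective D.subtype_injective]
    exact hP.card_le (map_subtype_le _) (T.2.map _)
  have hodd : ¬ 2 ∣ P'.index := hPT ▸ T.not_dvd_index
  have htop : K' ⊔ P' = ⊤ := by
    rw [← index_eq_one]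
    refine Nat.eq_one_of_dvd_coprimes ?_ (index_dvd_of_le le_sup_left) (index_dvd_of_le le_sup_right)
    show K'.index.Coprime P'.index
    rw [index_eq_card, ha]
    exact Nat.Coprime.pow_left a ((Nat.prime_two.coprime_iff_not_dvd).mpr hodd)
  have hd' : (⟨d, hd⟩ : D) ∈ K' ⊔ P' := by rw [htop]; exact mem_top _
  rw [← SetLike.mem_coe, Subgroup.normal_mul] at hd'
  obtain ⟨k, hk, s, hs, hks⟩ := Set.mem_mul.mp hd'
  exact ⟨k, hk, s, hs, (congrArg Subtype.val hks).symm⟩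

/-- In a perfect group an element whose commutators are central is central. -/
theorem mem_center_of_comm (hperf : commutator G = ⊤) {e : G}
    (h : ∀ g : G, e * g * e⁻¹ * g⁻¹ ∈ center G) : e ∈ center G := by
  let f : G →* ↥(center G) :=
    { toFun := fun g => ⟨e * g * e⁻¹ * g⁻¹, h g⟩
      map_one' := Subtype.ext (by simp)
      map_mul' := fun a b => Subtype.ext (by
        show e * (a * b) * e⁻¹ * (a * b)⁻¹ = e * a * e⁻¹ * a⁻¹ * (e * b * e⁻¹ * b⁻¹)
        calc e * (a * b) * e⁻¹ * (a * b)⁻¹ = e * a * e⁻¹ * ((e * b * e⁻¹ * b⁻¹) * a⁻¹) := by group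
          _ = e * a * e⁻¹ * (a⁻¹ * (e * b * e⁻¹ * b⁻¹)) := by
            rw [mem_center_iff.mp (h b) a⁻¹]
          _ = _ := by group) }
  have hf : commutator G ≤ f.ker := by
    rw [_root_.commutator_def, Subgroup.commutator_le]
    intro a _ b _
    rw [MonoidHom.mem_ker, map_commutatorElement, commutatorElement_eq_one_iff_commute]
    exact Subtype.ext (mem_center_iff.mp (f b).2 _)
  refine mem_center_iff.mpr fun g => ?_
  have hg : e * g * e⁻¹ * g⁻¹ = 1 := congrArg Subtype.val (hf (hperf ▸ mem_top g))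
  calc g * e = (e * g * e⁻¹ * g⁻¹) * (g * e) := by rw [hg, one_mul]
    _ = e * g := by group

end H10.Shult.Rank
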