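import Cfsg.Agent.H10.Shult.RankFree

/-!
Rank one case of statement S3041: a fixed element normalising `U` that is conjugate to a noncentral
element of `Z` lies in `Z`. The case of an element moving `Z` is refuted by taking one with a
largest centraliser in `U`.
-/

set_option autoImplicit false
set_option linter.all false

open Subgroup
open H85.Shult (Inv disp fixed Cfg)

namespace H10.Shult.Rank

variable {G : Type*} [Group G] [Finite G] {σ : MulAut G} {r m p : ℕ} {S U Z : Subgroup G}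
  (C : Cfg σ r m p S U Z)
include C

/-- A fixed conjugator exists for two conjugate fixed elements. -/
theorem exists_fixed_conjugator {x e g : G} (hx : σ x = x) (he : σ e = e) (h : x = g * e * g⁻¹) :
    ∃ c, σ c = c ∧ x = c * e * c⁻¹ := by
  have hg : g⁻¹ * σ g ∈ centralizer ({e} : Set G) := by
    rw [mem_centralizer_singleton_iff]
    have h' : σ g * e * (σ g)⁻¹ = g * e * g⁻¹ := by
      rw [← h]
      conv_rhs => rw [← hx, h]
      rw [map_mul, map_mul, map_inv, he]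
    calc g⁻¹ * σ g * e = g⁻¹ * (σ g * e * (σ g)⁻¹) * σ g := by group
      _ = _ := by rw [h']; group
  obtain ⟨k, hk, hkf⟩ := H41.Shult.exists_fixed_coset C.hr C.hσ C.hcop (H := centralizer ({e} : Set G))
    (inv_centralizer he) hg
  refine ⟨g * k, hkf, ?_⟩
  rw [mem_centralizer_singleton_iff] at hk
  rw [h]
  calc g * e * g⁻¹ = g * (e * k) * k⁻¹ * g⁻¹ := by group
    _ = _ := by rw [← hk]; group

omit C [Finite G] in
theorem not_center_mul {z e : G} (hz : z ∈ center G) (he : e ∉ center G) : z * e ∉ center G :=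
  fun h => he (by simpa using mul_mem (inv_mem hz) h)

/-- The moved centraliser of `x` in `U`. -/
abbrev qd (σ : MulAut G) (U : Subgroup G) (x : G) : Subgroup G :=
  disp σ (U ⊓ centralizer ({x} : Set G))

omit [Finite G] in
theorem qd_le {x : G} (hx : σ x = x) :
    qd σ U x ≤ U ⊓ centralizer ({x} : Set G) :=
  H85.Shult.disp_le (inv_inf C.invU (inv_centralizer hx))

theorem disp_qd {x : G} (hx : σ x = x) : disp σ (qd σ U x) = qd σ U x :=
  disp_disp C.hr C.hσ C.hcop (inv_inf C.invU (inv_centralizer hx))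

/-- An element of `U` commuting with the involution `x` modulo `Z` lies in `qd x ⊔ Z`. -/
theorem mem_qd_sup {x v : G} (hx : σ x = x) (hxU : x ∈ normalizer (U : Set G)) (hv : v ∈ U)
    (hvx : x * v * x⁻¹ * v⁻¹ ∈ Z) : v ∈ qd σ U x ⊔ Z := by
  let V : Subgroup G :=
    { carrier := {v | v ∈ U ∧ x * v * x⁻¹ * v⁻¹ ∈ Z}
      one_mem' := ⟨one_mem _, by simpa using one_mem Z⟩
      mul_mem' := fun {a b} ha hb => ⟨mul_mem ha.1 hb.1, by
        have e : x * (a * b) * x⁻¹ * (a * b)⁻¹ =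
            (x * a * x⁻¹ * a⁻¹) * (a * (x * b * x⁻¹ * b⁻¹) * a⁻¹) := by group
        rw [e, C.cenU a ha.1 _ hb.2, mul_inv_cancel_right]
        exact mul_mem ha.2 hb.2⟩
      inv_mem' := fun {a} ha => ⟨inv_mem ha.1, by
        have e : x * a⁻¹ * x⁻¹ * a⁻¹⁻¹ = a⁻¹ * (x * a * x⁻¹ * a⁻¹)⁻¹ * a := by group
        rw [e, C.cenU a⁻¹ (inv_mem ha.1) _ (inv_mem ha.2), inv_mul_cancel_right]
        exact inv_mem ha.2⟩ }
  have hV : Inv σ V := by
    rintro a ⟨ha, ha'⟩
    refine ⟨C.invU a ha, ?_⟩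
    have e : x * σ a * x⁻¹ * (σ a)⁻¹ = σ (x * a * x⁻¹ * a⁻¹) := by
      rw [map_mul, map_mul, map_mul, map_inv, map_inv, hx]
    rw [e, C.fixZ ha']; exact ha'
  obtain ⟨d, hd, f, hf, hff, rfl⟩ :=
    exists_disp_mul C.hr C.hσ C.hcop hV (h := v) ⟨hv, hvx⟩
  have hcen : disp σ V ≤ U ⊓ centralizer ({x} : Set G) := by
    refine le_inf ((H85.Shult.disp_le hV).trans fun a ha => ha.1) ?_
    rw [disp, closure_le]
    rintro _ ⟨a, ⟨ha, ha'⟩, rfl⟩
    show σ a * a⁻¹ ∈ centralizer ({x} : Set G)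
    rw [mem_centralizer_singleton_iff]
    set c := x * a * x⁻¹ * a⁻¹ with hc
    have h1 : x * a * x⁻¹ = c * a := by rw [hc]; group
    have h2 : x * σ a * x⁻¹ = c * σ a := by
      have := congrArg σ h1
      rwa [map_mul, map_mul, map_mul, map_inv, hx, C.fixZ ha'] at this
    have h3 : x * (σ a * a⁻¹) * x⁻¹ = σ a * a⁻¹ := by
      calc x * (σ a * a⁻¹) * x⁻¹ = (x * σ a * x⁻¹) * (x * a * x⁻¹)⁻¹ := by group
        _ = (c * (σ a * a⁻¹)) * c⁻¹ := by rw [h1, h2]; group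
        _ = _ := by
          rw [← C.cenU _ (mul_mem (C.invU a ha) (inv_mem ha)) c ha', mul_inv_cancel_right]
    calc σ a * a⁻¹ * x = (x * (σ a * a⁻¹) * x⁻¹) * x := by rw [h3]
      _ = _ := by group
  refine mul_mem (mem_sup_left ?_) (mem_sup_right (C.mem_Z hf.1 hff))
  have h4 := H85.Shult.disp_mono (σ := σ) hcen
  rw [disp_disp C.hr C.hσ C.hcop hV] at h4
  exact h4 hd

/-- The elements to be excluded. -/
def Moving (σ : MulAut G) (U Z : Subgroup G) : Set G :=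
  {x | σ x = x ∧ x ∈ normalizer (U : Set G) ∧
    (∃ c, σ c = c ∧ ∃ e ∈ Z, e ∉ center G ∧ x = c * e * c⁻¹) ∧ ∃ z ∈ Z, x * z ≠ z * x}

theorem moving_sq {x : G} (hx : x ∈ Moving σ U Z) : x * x = 1 := by
  obtain ⟨-, -, ⟨c, -, e, he, -, rfl⟩, -⟩ := hx
  rw [show c * e * c⁻¹ * (c * e * c⁻¹) = c * (e * e) * c⁻¹ by group, C.sqZ e he]; group

/-- A better conjugator: it carries `U` over the moved centraliser of `x` and pulls `e` into
`N(U)`. -/
theorem exists_good_conjugator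
    (h2 : ∀ a ∈ Z, ∀ b ∈ Z, a ∉ center G → b ∉ center G → a * b ∈ center G)
    {x : G} (hx : x ∈ Moving σ U Z) {e : G} (he : e ∈ Z) (hec : e ∉ center G) :
    ∃ c, σ c = c ∧ (∃ e₂ ∈ Z, e₂ ∉ center G ∧ x = c * e₂ * c⁻¹) ∧
      qd σ U x ≤ cj c U ∧ c⁻¹ * e * c ∈ normalizer (U : Set G) := by
  obtain ⟨hxf, hxU, ⟨c, hc, e', he', hec', hxe⟩, hmov⟩ := hx
  have hU'x : cj c U ≤ centralizer ({x} : Set G) := cj_le fun u hu => by
    rw [mem_centralizer_singleton_iff, hxe]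
    calc c * u * c⁻¹ * (c * e' * c⁻¹) = c * (u * e') * c⁻¹ := by group
      _ = _ := by rw [C.cenU u hu e' he']; group
  have hxi : x⁻¹ = x := inv_eq_of_mul_eq_one_right (moving_sq C
    ⟨hxf, hxU, ⟨c, hc, e', he', hec', hxe⟩, hmov⟩)
  have heH : e ∈ nearCen Z x := by
    have h1 : x * e⁻¹ * x⁻¹ ∈ Z := conj_mem_Z C hxf hxU (inv_mem he)
    have h1c : x * e⁻¹ * x⁻¹ ∉ center G := fun h => hec (by
      have := (Subgroup.normal_of_characteristic (center G)).conj_mem _ h x⁻¹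
      simpa [mul_assoc] using this)
    rw [mem_nearCen, show e * x * e⁻¹ * x⁻¹ = e * (x * e⁻¹ * x⁻¹) by group]
    exact ⟨mul_mem he h1, h2 e he _ h1 hec h1c⟩
  have hTH : qd σ U x ⊔ zpowers e ≤ nearCen Z x :=
    sup_le ((qd_le C hxf).trans (inf_le_right.trans (centralizer_le_nearCen Z x)))
      (zpowers_le.mpr heH)
  have hT2 : IsPGroup 2 ↥(qd σ U x ⊔ zpowers e) :=
    C.pU.to_le (sup_le ((qd_le C hxf).trans inf_le_left) (zpowers_le.mpr (C.Z_le_U he)))
  have hqi : Inv σ (qd σ U x) := H85.Shult.inv_disp (inv_inf C.invU (inv_centralizer hxf))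
  obtain ⟨P, hPi, hUP, hPs⟩ := H41.Shult.exists_inv_syl_ge C.hr C.hσ C.hcop
    (H := nearCen Z x) (inv_nearCen C hxf) (inv_cjU C hc)
    (hU'x.trans (centralizer_le_nearCen Z x)) (C.pU.map _)
  obtain ⟨k, hk, hkf, hkT⟩ := exists_fixed_conj_le (H := nearCen Z x) C.hr C.hσ C.hcop
    (inv_nearCen C hxf) hPi hPs (inv_sup hqi (inv_zpowers (C.fixZ he))) hTH hT2
  have hcf : σ (k⁻¹ * c) = k⁻¹ * c := by rw [map_mul, map_inv, hkf, hc]
  refine ⟨k⁻¹ * c, hcf, ?_, ?_, ?_⟩
  · rw [mem_nearCen] at hk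
    set z₁ := k * x * k⁻¹ * x⁻¹ with hz1
    refine ⟨z₁ * e', mul_mem hk.1 he', not_center_mul hk.2 hec', ?_⟩
    have h1 : k⁻¹ * (z₁ * x) * k = x := by rw [hz1]; group
    conv_lhs => rw [← h1, hxe]
    calc k⁻¹ * (z₁ * (c * e' * c⁻¹)) * k = k⁻¹ * ((z₁ * c) * e' * c⁻¹) * k := by group
      _ = k⁻¹ * ((c * z₁) * e' * c⁻¹) * k := by rw [← mem_center_iff.mp hk.2 c]
      _ = _ := by group
  · have h1 : cj k (qd σ U x) ≤ cj c U := by
      rw [← disp_eq_cj C hc hPi hPs.2.1 hUP, ← disp_qd C hxf, ← disp_cj hkf]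
      exact H85.Shult.disp_mono ((cj_mono le_sup_left).trans hkT)
    intro q hq
    have h3 := mem_cj.mp (h1 (conj_mem_cj hq))
    rw [mem_cj]
    simpa [mul_assoc] using h3
  · have h1 : k * e * k⁻¹ ∈ normalizer (cj c U : Set G) :=
      le_normalizer_cjU C hc hPi hPs.2.1 hUP (hkT (conj_mem_cj (mem_sup_right (mem_zpowers e))))
    have := mem_normalizer_of_cj h1
    simpa [mul_assoc] using this

/-- No element is moving. -/
theorem moving_empty (hL : Loc σ U Z) (hZ : ¬ Z ≤ center G)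
    (h2 : ∀ a ∈ Z, ∀ b ∈ Z, a ∉ center G → b ∉ center G → a * b ∈ center G) :
    Moving σ U Z = ∅ := by
  by_contra hne
  rw [← Ne, ← Set.nonempty_iff_ne_empty] at hne
  obtain ⟨x, hx, hmax⟩ := Set.exists_max_image (Moving σ U Z)
    (fun x => Nat.card (qd σ U x)) (Set.toFinite _) hne
  obtain ⟨e, he, hec⟩ : ∃ e ∈ Z, e ∉ center G := SetLike.not_le_iff_exists.mp hZ
  obtain ⟨c, hc, ⟨e₂, he₂, hec₂, hxe⟩, hqU, heN⟩ := exists_good_conjugator C h2 hx he hec
  obtain ⟨hxf, hxU, -, zm, hzm, hzmne⟩ := hx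
  set y := c⁻¹ * e * c with hy
  have hyf : σ y = y := by rw [hy, map_mul, map_mul, map_inv, hc, C.fixZ he]
  have hxe0 : ¬ x * e = e * x := fun h => hzmne (comm_all h2 he hec h zm hzm)
  have hyM : y ∈ Moving σ U Z := by
    refine ⟨hyf, heN, ⟨c⁻¹, by rw [map_inv, hc], e, he, hec, by rw [hy, inv_inv]⟩,
      e₂, he₂, fun h => hxe0 ?_⟩
    have := congrArg (fun t => c * t * c⁻¹) h
    rw [hxe]
    simp only [hy] at this
    calc c * e₂ * c⁻¹ * e = c * (e₂ * (c⁻¹ * e * c)) * c⁻¹ := by group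
      _ = c * (c⁻¹ * e * c * e₂) * c⁻¹ := this.symm
      _ = _ := by group
  -- the moved centralisers of `x` and `y` correspond
  have hsub : cj c⁻¹ (qd σ U x) ≤ qd σ U y := by
    have hcf : σ c⁻¹ = c⁻¹ := by rw [map_inv, hc]
    rw [← disp_qd C hxf, ← disp_cj hcf]
    refine H85.Shult.disp_mono (cj_le fun q hq => ⟨?_, mem_centralizer_singleton_iff.mpr ?_⟩)
    · simpa using mem_cj.mp (hqU hq)
    · rw [hy]
      calc c⁻¹ * q * c⁻¹⁻¹ * (c⁻¹ * e * c) = c⁻¹ * (q * e) * c := by group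
        _ = _ := by rw [C.cenU q (qd_le C hxf hq).1 e he]; group
  have heq : cj c⁻¹ (qd σ U x) = qd σ U y :=
    eq_of_le_of_card_ge hsub (by rw [card_cj]; exact hmax y hyM)
  have hback : ∀ q ∈ qd σ U y, c * q * c⁻¹ ∈ qd σ U x := by
    intro q hq
    rw [← heq, mem_cj, inv_inv] at hq
    exact hq
  set Q := qd σ U x ⊔ Z ⊔ zpowers x with hQ
  have hQ0 : ∀ t ∈ qd σ U x, t ∈ Q := fun t ht => mem_sup_left (mem_sup_left ht)
  have hQZ : ∀ t ∈ Z, t ∈ Q := fun t ht => mem_sup_left (mem_sup_right ht)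
  have hQx : x ∈ Q := mem_sup_right (mem_zpowers x)
  have hcZQ : ∀ z ∈ Z, c * z * c⁻¹ ∈ Q := by
    intro z hz
    by_cases hzc : z ∈ center G
    · rw [mem_center_iff.mp hzc c, mul_inv_cancel_right]; exact hQZ z hz
    · have h := h2 z hz e₂ he₂ hzc hec₂
      have e' : c * z * c⁻¹ = (z * e₂) * x := by
        rw [hxe]
        calc c * z * c⁻¹ = c * (z * e₂) * (e₂⁻¹ * c⁻¹) := by group
          _ = (z * e₂) * c * (e₂⁻¹ * c⁻¹) := by rw [mem_center_iff.mp h c]
          _ = (z * e₂) * c * (e₂ * c⁻¹) := by rw [inv_eq_Z C he₂]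
          _ = _ := by group
      rw [e']; exact mul_mem (hQZ _ (mul_mem hz he₂)) hQx
  -- `[u, t] ∈ qd t ⊔ Z` for an involution `t`
  have hcomm : ∀ t, σ t = t → t ∈ normalizer (U : Set G) → t * t = 1 → ∀ u ∈ U,
      ∃ w ∈ qd σ U t ⊔ Z, u * t * u⁻¹ = w * t := by
    intro t ht htU htt u hu
    refine ⟨u * t * u⁻¹ * t⁻¹, ?_, by group⟩
    have hti : t⁻¹ = t := inv_eq_of_mul_eq_one_right htt
    have hwU : u * t * u⁻¹ * t⁻¹ ∈ U := by
      have := mul_mem hu ((mem_normalizer_iff.mp htU _).mp (inv_mem hu))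
      simpa [mul_assoc] using this
    refine mem_qd_sup C ht htU hwU ?_
    have e' : t * (u * t * u⁻¹ * t⁻¹) * t⁻¹ = (u * t * u⁻¹ * t⁻¹)⁻¹ := by
      calc t * (u * t * u⁻¹ * t⁻¹) * t⁻¹ = t * u * t * u⁻¹ * (t * t)⁻¹ := by group
        _ = t * u * t⁻¹ * u⁻¹ := by rw [htt, inv_one, mul_one, hti]
        _ = _ := by group
    rw [e']
    simpa using inv_mem (C.sqU _ hwU)
  have hU : U ≤ normalizer (Q : Set G) := by
    intro u hu
    refine mem_normalizer_of_conj fun t ht => ?_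
    have : cj u Q ≤ Q := by
      rw [hQ, cj, Subgroup.map_sup, Subgroup.map_sup]
      refine sup_le (sup_le (cj_le fun q hq => ?_) (cj_le fun z hz => ?_)) (cj_le fun z hz => ?_)
      · have hqU' := (qd_le C hxf hq).1
        have e' : u * q * u⁻¹ = (u * q * u⁻¹ * q⁻¹) * q := by group
        rw [e']; exact mul_mem (hQZ _ (C.comU u hu q hqU')) (hQ0 q hq)
      · rw [C.cenU u hu z hz, mul_inv_cancel_right]; exact hQZ z hz
      · obtain ⟨i, rfl⟩ := mem_zpowers_iff.mp hz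
        rw [← conj_zpow]
        refine zpow_mem ?_ i
        obtain ⟨w, hw, e'⟩ := hcomm x hxf hxU (moving_sq C ⟨hxf, hxU,
          ⟨c, hc, e₂, he₂, hec₂, hxe⟩, zm, hzm, hzmne⟩) u hu
        rw [e']; exact mul_mem (mem_sup_left hw) hQx
    exact this (conj_mem_cj ht)
  have hU1 : cj c U ≤ normalizer (Q : Set G) := by
    refine cj_le fun u hu => mem_normalizer_of_conj fun t ht => ?_
    have hin : ∀ t : G, c * u * c⁻¹ * t * (c * u * c⁻¹)⁻¹ =
        c * (u * (c⁻¹ * t * c) * u⁻¹) * c⁻¹ := fun t => by group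
    have : cj (c * u * c⁻¹) Q ≤ Q := by
      rw [hQ, cj, Subgroup.map_sup, Subgroup.map_sup]
      refine sup_le (sup_le (cj_le fun q hq => ?_) (cj_le fun z hz => ?_)) (cj_le fun z hz => ?_)
      · have hq' : c⁻¹ * q * c ∈ U := mem_cj.mp (hqU hq)
        rw [hin]
        have e' : c * (u * (c⁻¹ * q * c) * u⁻¹) * c⁻¹ =
            (c * (u * (c⁻¹ * q * c) * u⁻¹ * (c⁻¹ * q * c)⁻¹) * c⁻¹) * q := by group
        rw [e']; exact mul_mem (hcZQ _ (C.comU u hu _ hq')) (hQ0 q hq)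
      · rw [hin]
        by_cases hzc : z ∈ center G
        · rw [mem_center_iff.mp hzc c⁻¹ |>.trans rfl]
          rw [mul_assoc z, inv_mul_cancel, mul_one, mem_center_iff.mp hzc u, mul_inv_cancel_right,
            mem_center_iff.mp hzc c, mul_inv_cancel_right]
          exact hQZ z hz
        · have hze := h2 z hz e he hzc hec
          have e' : c * (u * (c⁻¹ * z * c) * u⁻¹) * c⁻¹ =
              (z * e) * (c * (u * y * u⁻¹) * c⁻¹) := by
            have hzz : z = (z * e) * e := by rw [mul_assoc, C.sqZ e he, mul_one]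
            conv_lhs => rw [hzz]
            calc c * (u * (c⁻¹ * (z * e * e) * c) * u⁻¹) * c⁻¹
                = (c * u * c⁻¹) * (z * e) * (e * c * u⁻¹ * c⁻¹) := by group
              _ = (z * e) * (c * u * c⁻¹) * (e * c * u⁻¹ * c⁻¹) := by
                rw [mem_center_iff.mp hze]
              _ = _ := by rw [hy]; group
          rw [e']
          refine mul_mem (hQZ _ (mul_mem hz he)) ?_
          obtain ⟨w, hw, ew⟩ := hcomm y hyf heN (moving_sq C hyM) u hu
          rw [ew, show c * (w * y) * c⁻¹ = (c * w * c⁻¹) * e by rw [hy]; group]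
          refine mul_mem ?_ (hQZ e he)
          have : cj c (qd σ U y ⊔ Z) ≤ Q := by
            rw [cj, Subgroup.map_sup]
            exact sup_le (cj_le fun q hq => hQ0 _ (hback q hq)) (cj_le hcZQ)
          exact this (conj_mem_cj hw)
      · obtain ⟨i, rfl⟩ := mem_zpowers_iff.mp hz
        rw [← conj_zpow]
        refine zpow_mem ?_ i
        have hxu : c * u * c⁻¹ * x * (c * u * c⁻¹)⁻¹ = x := by
          rw [hxe]
          calc c * u * c⁻¹ * (c * e₂ * c⁻¹) * (c * u * c⁻¹)⁻¹ = c * (u * e₂) * u⁻¹ * c⁻¹ := by group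
            _ = _ := by rw [C.cenU u hu e₂ he₂]; group
        rw [hxu]; exact hQx
    exact this (conj_mem_cj ht)
  -- the structure of the proper subgroup `N(Q)`
  have hQi : Inv σ Q := inv_sup (inv_sup
    (H85.Shult.inv_disp (inv_inf C.invU (inv_centralizer hxf))) C.invZ) (inv_zpowers hxf)
  have hxz : IsPGroup 2 (zpowers x) := by
    intro t
    obtain ⟨i, hi⟩ := mem_zpowers_iff.mp t.2
    refine ⟨1, Subtype.ext ?_⟩
    rw [pow_one, coe_pow, coe_one, ← hi, ← zpow_natCast, ← zpow_mul, mul_comm, zpow_mul,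
      zpow_natCast, pow_two, hxe, show c * e₂ * c⁻¹ * (c * e₂ * c⁻¹) = c * (e₂ * e₂) * c⁻¹ by group,
      C.sqZ e₂ he₂, mul_one, mul_inv_cancel, one_zpow]
  have hT2 : IsPGroup 2 ↥(U ⊔ zpowers x) :=
    C.pU.to_sup_of_normal_left' hxz (zpowers_le.mpr hxU)
  have hQ2 : IsPGroup 2 Q := hT2.to_le (sup_le
    (sup_le (((qd_le C hxf).trans inf_le_left).trans le_sup_left) (C.Z_le_U.trans le_sup_left))
    le_sup_right)
  have hQne : normalizer (Q : Set G) ≠ ⊤ :=
    normalizer_ne_top C hQi hQ2 fun h => hec (h (hQZ e he))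
  obtain ⟨K, hKH, hKp, hKi, hHK, hpow⟩ := C.small _ (inv_normalizer hQi) hQne
  set D := disp σ (normalizer (Q : Set G)) with hD
  have hUD : U ≤ D := (disp_U C).ge.trans (H85.Shult.disp_mono hU)
  have hU1D : cj c U ≤ D := (disp_cjU C hc).ge.trans (H85.Shult.disp_mono hU1)
  have hxc : x ∈ cj c U := by rw [hxe]; exact conj_mem_cj (C.Z_le_U he₂)
  have hxD : x ∈ D := hU1D hxc
  have hDi : Inv σ D := H85.Shult.inv_disp (inv_normalizer hQi)
  obtain ⟨P, hPi, hTP, hPs⟩ := H41.Shult.exists_inv_syl_ge C.hr C.hσ C.hcop (H := D) hDi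
    (inv_sup C.invU (inv_zpowers hxf)) (sup_le hUD (zpowers_le.mpr hxD)) hT2
  have hUP : U ≤ P := le_sup_left.trans hTP
  have hxP : x ∈ P := hTP (mem_sup_right (mem_zpowers x))
  have hdP : disp σ P = U := disp_eq_U C hPi hPs.2.1 hUP
  obtain ⟨h, hh, hhf, hhU⟩ := exists_fixed_conj_le (H := D) C.hr C.hσ C.hcop hDi hPi hPs
    (inv_cjU C hc) hU1D (C.pU.map _)
  have hhx : h * x * h⁻¹ ∈ U := by
    have h1 : cj h (cj c U) ≤ U := by
      have h2' := H85.Shult.disp_mono (σ := σ) hhU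
      rwa [disp_cj hhf, disp_cjU C hc, hdP] at h2'
    exact h1 (conj_mem_cj hxc)
  have hDH : D ≤ normalizer (K : Set G) :=
    (H85.Shult.disp_le (inv_normalizer hQi)).trans hHK
  obtain ⟨k, hk, s, hs, rfl⟩ := exists_decomp hDH hPs hpow hh
  have hyP : s * x * s⁻¹ ∈ P := mul_mem (mul_mem hs hxP) (inv_mem hs)
  have hyk : k * (s * x * s⁻¹) * k⁻¹ ∈ U := by simpa [mul_assoc] using hhx
  have heqy := conj_eq_self C.hp C.hp2 hKp hPs.2.1 hk hyP (hDH (hPs.1 hyP)) (hUP hyk)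
  rw [heqy] at hyk
  have hsN : s ∈ normalizer (U : Set G) := hdP ▸ H85.Shult.le_normalizer_disp hs
  have hxUmem : x ∈ U := (mem_normalizer_iff.mp hsN x).mpr hyk
  exact hzmne (C.cenU x hxUmem zm hzm)

/-- A fixed element of `N(U)` conjugate to a noncentral element of `Z` lies in `Z`. -/
theorem conj_fixed_mem_Z (hL : Loc σ U Z) (hZ : ¬ Z ≤ center G)
    (h2 : ∀ a ∈ Z, ∀ b ∈ Z, a ∉ center G → b ∉ center G → a * b ∈ center G)
    {x g e : G} (hx : σ x = x) (hxU : x ∈ normalizer (U : Set G)) (he : e ∈ Z)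
    (hec : e ∉ center G) (h : x = g * e * g⁻¹) : x ∈ Z := by
  obtain ⟨c, hc, hxe⟩ := exists_fixed_conjugator C hx (C.fixZ he) h
  have hall : ∀ z ∈ Z, x * z = z * x := by
    by_contra hn
    push Not at hn
    have : x ∈ Moving σ U Z := ⟨hx, hxU, ⟨c, hc, e, he, hec, hxe⟩, hn⟩
    rw [moving_empty C hL hZ h2] at this
    exact this
  have hxu := hL.cent x hx hxU hall
  have hUH : U ≤ centralizer ({x} : Set G) := fun u hu =>
    mem_centralizer_singleton_iff.mpr (hxu u hu).symm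
  have hU'x : cj c U ≤ centralizer ({x} : Set G) := cj_le fun u hu => by
    rw [mem_centralizer_singleton_iff, hxe]
    calc c * u * c⁻¹ * (c * e * c⁻¹) = c * (u * e) * c⁻¹ := by group
      _ = _ := by rw [C.cenU u hu e he]; group
  obtain ⟨P, hPi, hUP, hPs⟩ := H41.Shult.exists_inv_syl_ge C.hr C.hσ C.hcop
    (H := centralizer ({x} : Set G)) (inv_centralizer hx) (inv_cjU C hc) hU'x (C.pU.map _)
  obtain ⟨k, hk, hkf, hkU⟩ := exists_fixed_conj_le (H := centralizer ({x} : Set G)) C.hr C.hσ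
    C.hcop (inv_centralizer hx) hPi hPs C.invU hUH C.pU
  have h1 : cj k U ≤ cj c U := by
    rw [← disp_eq_cj C hc hPi hPs.2.1 hUP, ← disp_cjU C hkf]
    exact H85.Shult.disp_mono hkU
  have h2' : cj k U = cj c U := eq_of_le_of_card_ge h1 (by rw [card_cj, card_cj])
  have hxk : x ∈ cj k U := by rw [h2', hxe]; exact conj_mem_cj (C.Z_le_U he)
  rw [mem_cj] at hxk
  rw [mem_centralizer_singleton_iff] at hk
  have e' : k⁻¹ * x * k = x := by
    rw [mul_assoc, ← hk, inv_mul_cancel_left]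
  rw [e'] at hxk
  exact C.mem_Z hxk hx

end H10.Shult.Rank
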