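import Cfsg.Agent.H10.Shult.RankBasic

/-!
The configuration of statement S3041 when `Z` has index two over its central part: elementary facts
on conjugates of `U` under fixed elements, on `Z`, and on commutators with fixed elements.
-/

set_option autoImplicit false
set_option linter.all false

open Subgroup
open H85.Shult (Inv disp fixed Cfg)

namespace H10.Shult.Rank

variable {G : Type*} [Group G]

/-- The consequences of the block structure used in the rank one case. -/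
structure Loc (σ : MulAut G) (U Z : Subgroup G) : Prop where
  cent : ∀ c : G, σ c = c → c ∈ normalizer (U : Set G) → (∀ z ∈ Z, c * z = z * c) →
    ∀ u ∈ U, c * u = u * c
  hQ : ∀ x ∈ U, x ∉ Z → (∀ k : ℕ, (σ ^ k) x * x * ((σ ^ k) x)⁻¹ * x⁻¹ ∈ center G) →
    ∀ h ∈ U, (∀ k : ℕ, Commute ((σ ^ k) x) h) → h ∈ Z

/-- Elements commuting with `x` modulo the central part of `Z`. -/
def nearCen (Z : Subgroup G) (x : G) : Subgroup G where
  carrier := {g | g * x * g⁻¹ * x⁻¹ ∈ Z ⊓ center G}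
  one_mem' := by show (1 : G) * x * 1⁻¹ * x⁻¹ ∈ Z ⊓ center G; simpa using one_mem (Z ⊓ center G)
  mul_mem' := fun {g h} hg hh => by
    show g * h * x * (g * h)⁻¹ * x⁻¹ ∈ Z ⊓ center G
    have e : g * h * x * (g * h)⁻¹ * x⁻¹ = (h * x * h⁻¹ * x⁻¹) * (g * x * g⁻¹ * x⁻¹) := by
      calc g * h * x * (g * h)⁻¹ * x⁻¹ = g * (h * x * h⁻¹ * x⁻¹) * (x * g⁻¹ * x⁻¹) := by group
        _ = (h * x * h⁻¹ * x⁻¹) * g * (x * g⁻¹ * x⁻¹) := by rw [mem_center_iff.mp hh.2 g]
        _ = _ := by group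
    rw [e]; exact mul_mem hh hg
  inv_mem' := fun {g} hg => by
    show g⁻¹ * x * g⁻¹⁻¹ * x⁻¹ ∈ Z ⊓ center G
    have e : g⁻¹ * x * g⁻¹⁻¹ * x⁻¹ = (g * x * g⁻¹ * x⁻¹)⁻¹ := by
      set c := g * x * g⁻¹ * x⁻¹ with hc
      have h1 : g⁻¹ * c⁻¹ = c⁻¹ * g⁻¹ := mem_center_iff.mp (inv_mem hg.2) g⁻¹
      calc g⁻¹ * x * g⁻¹⁻¹ * x⁻¹ = (g⁻¹ * c⁻¹) * g := by rw [hc]; group
        _ = c⁻¹ := by rw [h1, inv_mul_cancel_right]
    rw [e]; exact inv_mem hg

theorem mem_nearCen {Z : Subgroup G} {x g : G} :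
    g ∈ nearCen Z x ↔ g * x * g⁻¹ * x⁻¹ ∈ Z ⊓ center G := Iff.rfl

theorem centralizer_le_nearCen (Z : Subgroup G) (x : G) :
    centralizer ({x} : Set G) ≤ nearCen Z x := by
  intro g hg
  rw [mem_centralizer_singleton_iff] at hg
  rw [mem_nearCen, hg, mul_inv_cancel_right, mul_inv_cancel]
  exact one_mem _

variable [Finite G] {σ : MulAut G} {r m p : ℕ} {S U Z : Subgroup G} (C : Cfg σ r m p S U Z)
include C

theorem syl : H41.Shult.IsSylTwo ⊤ S := isSylTwo_of_index C.pS C.indexS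

theorem disp_U : disp σ U = U := by
  rw [C.defU]; exact disp_disp C.hr C.hσ C.hcop C.invS

theorem inv_cjU {c : G} (hc : σ c = c) : Inv σ (cj c U) := inv_cj hc C.invU

theorem disp_cjU {c : G} (hc : σ c = c) : disp σ (cj c U) = cj c U := by
  rw [disp_cj hc, disp_U C]

theorem exists_US {s : G} (hs : s ∈ S) : ∃ u ∈ U, ∃ a ∈ S, σ a = a ∧ s = u * a := by
  obtain ⟨d, hd, f, hf, hff, e⟩ := exists_disp_mul C.hr C.hσ C.hcop C.invS hs
  exact ⟨d, C.defU ▸ hd, f, hf, hff, e⟩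

/-- An invariant 2-group over a fixed conjugate of `U` moves exactly into that conjugate. -/
theorem disp_eq_cj {c : G} (hc : σ c = c) {T : Subgroup G} (hT : Inv σ T) (hT2 : IsPGroup 2 T)
    (hU : cj c U ≤ T) : disp σ T = cj c U := by
  obtain ⟨g, -, hgf, hgS⟩ := exists_fixed_conj_le (H := (⊤ : Subgroup G)) C.hr C.hσ C.hcop
    (fun x _ => mem_top _) C.invS (syl C) hT le_top hT2
  have h1 : cj g (disp σ T) ≤ U := by
    rw [← disp_cj hgf]
    exact (H85.Shult.disp_mono hgS).trans C.defU.ge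
  have h2 : cj c U ≤ disp σ T := (disp_cjU C hc).ge.trans (H85.Shult.disp_mono hU)
  refine (eq_of_le_of_card_ge h2 ?_).symm
  rw [card_cj, ← card_cj g (disp σ T)]
  exact Subgroup.card_le_of_le h1

theorem disp_eq_U {T : Subgroup G} (hT : Inv σ T) (hT2 : IsPGroup 2 T) (hU : U ≤ T) :
    disp σ T = U := by
  have e : cj 1 U = U := by ext x; simp [mem_cj]
  have := disp_eq_cj C (c := 1) (map_one σ) hT hT2 (by rw [e]; exact hU)
  rwa [e] at this

theorem le_normalizer_cjU {c : G} (hc : σ c = c) {T : Subgroup G} (hT : Inv σ T)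
    (hT2 : IsPGroup 2 T) (hU : cj c U ≤ T) : T ≤ normalizer (cj c U : Set G) := by
  rw [← disp_eq_cj C hc hT hT2 hU]
  exact H85.Shult.le_normalizer_disp

omit C [Finite G] in
theorem mem_normalizer_of_cj {c g : G} (hg : g ∈ normalizer (cj c U : Set G)) :
    c⁻¹ * g * c ∈ normalizer (U : Set G) := by
  refine mem_normalizer_iff.mpr fun u => ?_
  have h := mem_normalizer_iff.mp hg (c * u * c⁻¹)
  rw [mem_cj, mem_cj] at h
  simpa [mul_assoc] using h

theorem conj_mem_Z {g : G} (hg : σ g = g) (hgU : g ∈ normalizer (U : Set G)) {z : G} (hz : z ∈ Z) :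
    g * z * g⁻¹ ∈ Z := by
  refine C.mem_Z ((mem_normalizer_iff.mp hgU z).mp (C.Z_le_U hz)) ?_
  rw [map_mul, map_mul, map_inv, hg, C.fixZ hz]

theorem inv_eq_Z {z : G} (hz : z ∈ Z) : z⁻¹ = z := inv_eq_of_mul_eq_one_right (C.sqZ z hz)

theorem two_center {a b : G} (ha : a ∈ Z) (ha' : a ∈ center G) (hb : b ∈ Z) (hb' : b ∈ center G)
    (ha1 : a ≠ 1) (hb1 : b ≠ 1) : a = b := by
  classical
  by_contra hne
  haveI := Fintype.ofFinite ↥(Z ⊓ center G)
  have h3 : ({1, ⟨a, ha, ha'⟩, ⟨b, hb, hb'⟩} : Finset ↥(Z ⊓ center G)).card = 3 := by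
    simp only [Finset.card_eq_three]
    exact ⟨_, _, _, fun h => ha1 (congrArg Subtype.val h).symm,
      fun h => hb1 (congrArg Subtype.val h).symm, fun h => hne (congrArg Subtype.val h), rfl⟩
  have := Finset.card_le_univ ({1, ⟨a, ha, ha'⟩, ⟨b, hb, hb'⟩} : Finset ↥(Z ⊓ center G))
  rw [h3, ← Nat.card_eq_fintype_card] at this
  have := C.centre_two
  omega

/-- An element of `U` moved only inside `Z` lies in `Z`. -/
theorem mem_Z_of_mov {v : G} (hv : v ∈ U) (h : σ v * v⁻¹ ∈ Z) : v ∈ Z := by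
  set z := σ v * v⁻¹ with hz
  have hσv : σ v = z * v := by rw [hz]; group
  have hk : ∀ k : ℕ, (σ ^ k) v = z ^ k * v := by
    intro k
    induction k with
    | zero => simp
    | succ n ih =>
      rw [pow_succ', MulAut.mul_apply, ih, map_mul, map_pow, C.fixZ h, hσv, ← mul_assoc, ← pow_succ]
  have h1 : z ^ r = 1 := by
    have := hk r
    rwa [C.hσ, MulAut.one_apply, eq_comm, mul_eq_right] at this
  have h2 : z ^ 2 = 1 := by rw [pow_two]; exact C.sqZ z h
  have hodd : Odd r := by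
    rw [C.hrm]
    exact (Nat.even_pow.mpr ⟨even_two, C.m_pos.ne'⟩).add_one
  obtain ⟨k, hk'⟩ := hodd
  rw [hk', pow_succ, pow_mul, h2, one_pow, one_mul] at h1
  exact C.mem_Z hv (by rw [hσv, h1, one_mul])

/-- A subgroup of `Z` containing all commutators of `U` contains `Z`. -/
theorem Z_le_of_comm {N : Subgroup G} (hNZ : N ≤ Z)
    (hN : ∀ u ∈ U, ∀ v ∈ U, u * v * u⁻¹ * v⁻¹ ∈ N) : Z ≤ N := by
  classical
  set N' := N.subgroupOf U with hN'
  haveI : N'.Normal := ⟨fun n hn g => by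
    have : (g : G) * n = n * g := C.cenU g g.2 n (hNZ hn)
    rw [hN', mem_subgroupOf, coe_mul, coe_mul, coe_inv, this, mul_inv_cancel_right]
    exact hn⟩
  have hcomm : ∀ a b : U ⧸ N', a * b = b * a := by
    intro a b
    obtain ⟨a, rfl⟩ := QuotientGroup.mk_surjective a
    obtain ⟨b, rfl⟩ := QuotientGroup.mk_surjective b
    rw [← QuotientGroup.mk_mul, ← QuotientGroup.mk_mul, eq_comm, QuotientGroup.eq, hN', mem_subgroupOf]
    have h := hN _ (inv_mem a.2) _ (inv_mem b.2)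
    simpa [mul_assoc] using h
  letI : CommGroup (U ⧸ N') := { (inferInstance : Group (U ⧸ N')) with mul_comm := hcomm }
  let F : U → U := fun u => ⟨σ u * (u : G)⁻¹, mul_mem (C.invU u u.2) (inv_mem u.2)⟩
  let f : U →* U ⧸ N' :=
    { toFun := fun u => QuotientGroup.mk (F u)
      map_one' := by
        rw [show F 1 = 1 from Subtype.ext (by simp [F]), QuotientGroup.mk_one]
      map_mul' := fun a b => by
        rw [show F (a * b) = ⟨σ a, C.invU a a.2⟩ * F b * ⟨σ a, C.invU a a.2⟩⁻¹ * F a from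
          Subtype.ext (by simp [F, mul_assoc])]
        rw [QuotientGroup.mk_mul, QuotientGroup.mk_mul, QuotientGroup.mk_mul, QuotientGroup.mk_inv,
          hcomm (QuotientGroup.mk ⟨σ a, C.invU a a.2⟩) (QuotientGroup.mk (F b)),
          mul_inv_cancel_right, hcomm] }
  have hsurj : Function.Surjective f := by
    intro q
    obtain ⟨u, rfl⟩ := QuotientGroup.mk_surjective q
    suffices ∀ x ∈ disp σ U, ∀ hx : x ∈ U, QuotientGroup.mk (⟨x, hx⟩ : U) ∈ f.range from
      this u (by rw [disp_U C]; exact u.2) u.2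
    intro x hx
    induction hx using Subgroup.closure_induction with
    | mem y hy =>
      obtain ⟨h, hh, rfl⟩ := hy
      exact fun hx' => ⟨⟨h, hh⟩, rfl⟩
    | one => exact fun _ => ⟨1, map_one f⟩
    | mul a b ha hb iha ihb =>
      intro hab
      have ha' : a ∈ U := H85.Shult.disp_le C.invU ha
      have hb' : b ∈ U := H85.Shult.disp_le C.invU hb
      have := mul_mem (iha ha') (ihb hb')
      rwa [← QuotientGroup.mk_mul] at this
    | inv a ha iha =>
      intro hai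
      have ha' : a ∈ U := H85.Shult.disp_le C.invU ha
      have := inv_mem (iha ha')
      rwa [← QuotientGroup.mk_inv] at this
  have hle : N' ≤ f.ker := by
    intro n hn
    rw [MonoidHom.mem_ker]
    refine (QuotientGroup.eq_one_iff _).mpr ?_
    rw [hN', mem_subgroupOf]
    show σ (n : G) * (n : G)⁻¹ ∈ N
    have hn' : (n : G) ∈ N := hn
    rw [C.fixZ (hNZ hn'), mul_inv_cancel]; exact one_mem _
  have hker : f.ker = N' := by
    refine (eq_of_le_of_card_ge hle ?_).symm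
    have h1 := card_mul_index f.ker
    have h2 := card_mul_index N'
    rw [index_ker, MonoidHom.range_eq_top.mpr hsurj, card_top] at h1
    rw [index_eq_card] at h2
    exact Nat.le_of_mul_le_mul_right (le_of_eq (h1.trans h2.symm)) Nat.card_pos
  intro z hz
  have hzk : (⟨z, C.Z_le_U hz⟩ : U) ∈ f.ker := by
    rw [MonoidHom.mem_ker]
    refine (QuotientGroup.eq_one_iff _).mpr ?_
    rw [hN', mem_subgroupOf]
    show σ z * z⁻¹ ∈ N
    rw [C.fixZ hz, mul_inv_cancel]; exact one_mem _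
  rw [hker] at hzk
  exact hzk

theorem not_isPGroup_top : ¬ IsPGroup 2 (⊤ : Subgroup G) := by
  intro h
  haveI : Fact (Nat.Prime 2) := ⟨Nat.prime_two⟩
  have hG : IsPGroup 2 G := h.of_equiv Subgroup.topEquiv
  haveI := hG.isNilpotent
  obtain ⟨u, hu, hne⟩ := C.exists_moved
  haveI : Nontrivial G := ⟨⟨u, 1, fun e => hne (by rw [e, map_one])⟩⟩
  exact (IsSolvable.commutator_lt_top_of_nontrivial G).ne C.perfect

theorem normalizer_ne_top {T : Subgroup G} (hT : Inv σ T) (hT2 : IsPGroup 2 T)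
    (hc : ¬ T ≤ center G) : normalizer (T : Set G) ≠ ⊤ := by
  intro h
  refine hc (C.normal_le T (Subgroup.normalizer_eq_top_iff.mp h) hT ?_)
  intro e
  exact not_isPGroup_top C (e ▸ hT2)

theorem not_U_le_center : ¬ U ≤ center G := by
  intro h
  obtain ⟨u, hu, hne⟩ := C.exists_moved
  exact hne (C.center_fix u (h hu))

theorem inv_nearCen {x : G} (hx : σ x = x) : Inv σ (nearCen Z x) := by
  intro g hg
  rw [mem_nearCen] at hg ⊢
  have e : σ g * x * (σ g)⁻¹ * x⁻¹ = σ (g * x * g⁻¹ * x⁻¹) := by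
    rw [map_mul, map_mul, map_mul, map_inv, map_inv, hx]
  rw [e, C.fixZ hg.1]
  exact hg

theorem comm_mul {u v w : G} (hu : u ∈ U) (hv : v ∈ U) (hw : w ∈ U) :
    u * v * w * (u * v)⁻¹ * w⁻¹ = (u * w * u⁻¹ * w⁻¹) * (v * w * v⁻¹ * w⁻¹) := by
  calc u * v * w * (u * v)⁻¹ * w⁻¹ = u * (v * w * v⁻¹ * w⁻¹) * (w * u⁻¹ * w⁻¹) := by group
    _ = (v * w * v⁻¹ * w⁻¹) * u * (w * u⁻¹ * w⁻¹) := by rw [C.cenU u hu _ (C.comU v hv w hw)]
    _ = (v * w * v⁻¹ * w⁻¹) * (u * w * u⁻¹ * w⁻¹) := by group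
    _ = _ := (C.cenU _ (C.Z_le_U (C.comU u hu w hw)) _ (C.comU v hv w hw)).symm

theorem comm_symm {u v : G} (hu : u ∈ U) (hv : v ∈ U) :
    v * u * v⁻¹ * u⁻¹ = u * v * u⁻¹ * v⁻¹ := by
  rw [← inv_eq_Z C (C.comU u hu v hv)]; group

theorem comm_mul_right {u v w : G} (hu : u ∈ U) (hv : v ∈ U) (hw : w ∈ U) :
    w * (u * v) * w⁻¹ * (u * v)⁻¹ = (w * u * w⁻¹ * u⁻¹) * (w * v * w⁻¹ * v⁻¹) := by
  rw [comm_symm C (mul_mem hu hv) hw, comm_mul C hu hv hw, comm_symm C hw hu, comm_symm C hw hv]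

theorem comm_sigma {u v : G} (hu : u ∈ U) (hv : v ∈ U) (k : ℕ) :
    (σ ^ k) u * (σ ^ k) v * ((σ ^ k) u)⁻¹ * ((σ ^ k) v)⁻¹ = u * v * u⁻¹ * v⁻¹ := by
  rw [← map_inv, ← map_inv, ← map_mul, ← map_mul, ← map_mul]
  exact pow_fixed (C.fixZ (C.comU u hu v hv)) k

theorem sq_mul {u v : G} (hu : u ∈ U) (hv : v ∈ U) :
    u * v * (u * v) = u * u * (v * v) * (v * u * v⁻¹ * u⁻¹) := by
  have hc := C.comU v hv u hu
  calc u * v * (u * v) = u * (v * u * v⁻¹ * u⁻¹) * (u * (v * v)) := by group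
    _ = (v * u * v⁻¹ * u⁻¹) * u * (u * (v * v)) := by rw [C.cenU u hu _ hc]
    _ = (v * u * v⁻¹ * u⁻¹) * (u * u * (v * v)) := by group
    _ = _ := (C.cenU _ (mul_mem (mul_mem hu hu) (mul_mem hv hv)) _ hc).symm

end H10.Shult.Rank
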