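import Cfsg.Agent.H10.Shult.RankFacts

/-!
A fixed element normalising `U` and moving `Z` acts freely on `U / Z`: every element of `U`
centralised modulo `Z` is a commutator with it modulo `Z`. (Rank one case of statement S3041.)
-/

set_option autoImplicit false
set_option linter.all false

open Subgroup
open H85.Shult (Inv disp fixed Cfg)

namespace H10.Shult.Rank

open scoped Classical in
/-- A pairing with left kernel inside `K` and right kernel containing `L`. -/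
theorem card_mul_le_of_pairing {P Q : Type*} [Group P] [Group Q] [Finite P] [Finite Q]
    (bl : Q → (P →* ℤ)) (br : P → (Q →* ℤ)) (hb : ∀ p q, bl q p = br p q)
    (K : Subgroup P) (hK : ∀ p, br p = 1 → p ∈ K) (L : Subgroup Q) (hL : ∀ q ∈ L, bl q = 1) :
    Nat.card L * Nat.card P ≤ Nat.card K * Nat.card Q := by
  haveI := Fintype.ofFinite P
  haveI := Fintype.ofFinite Q
  have e : ∑ p, ∑ q, br p q = ∑ q, ∑ p, bl q p := by
    rw [Finset.sum_comm]; simp only [hb]
  simp only [sum_hom_units, Nat.cast_ite, Nat.cast_zero] at e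
  rw [← Finset.sum_filter, ← Finset.sum_filter, Finset.sum_const, Finset.sum_const, nsmul_eq_mul,
    nsmul_eq_mul, ← Nat.cast_mul, ← Nat.cast_mul, Nat.cast_inj] at e
  have h1 : Nat.card L ≤ (Finset.univ.filter fun q => bl q = 1).card := by
    rw [Nat.card_eq_fintype_card, Fintype.card_subtype]
    exact Finset.card_le_card fun q hq => by
      simp only [Finset.mem_filter, Finset.mem_univ, true_and] at hq ⊢
      exact hL q hq
  have h2 : (Finset.univ.filter fun p => br p = 1).card ≤ Nat.card K := by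
    rw [Nat.card_eq_fintype_card, Fintype.card_subtype]
    exact Finset.card_le_card fun p hp => by
      simp only [Finset.mem_filter, Finset.mem_univ, true_and] at hp ⊢
      exact hK p hp
  rw [Nat.card_eq_fintype_card (α := P), Nat.card_eq_fintype_card (α := Q)]
  calc Nat.card L * Fintype.card P
      ≤ (Finset.univ.filter fun q => bl q = 1).card * Fintype.card P := Nat.mul_le_mul_right _ h1
    _ = (Finset.univ.filter fun p => br p = 1).card * Fintype.card Q := e.symm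
    _ ≤ _ := Nat.mul_le_mul_right _ h2

variable {G : Type*} [Group G] [Finite G] {σ : MulAut G} {r m p : ℕ} {S U Z : Subgroup G}
  (C : Cfg σ r m p S U Z)
include C

omit C [Finite G] in
theorem comm_all (h2 : ∀ a ∈ Z, ∀ b ∈ Z, a ∉ center G → b ∉ center G → a * b ∈ center G)
    {g z : G} (hz : z ∈ Z) (hzc : z ∉ center G) (h : g * z = z * g) : ∀ w ∈ Z, g * w = w * g := by
  intro w hw
  by_cases hwc : w ∈ center G
  · exact mem_center_iff.mp hwc g
  · have hc : Commute g (w * z) := mem_center_iff.mp (h2 w hw z hz hwc hzc) g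
    have := hc.mul_right (Commute.inv_right (show Commute g z from h))
    rwa [mul_inv_cancel_right] at this

/-- Free action. -/
theorem free_action (hL : Loc σ U Z) (hZ : ¬ Z ≤ center G)
    (h2 : ∀ a ∈ Z, ∀ b ∈ Z, a ∉ center G → b ∉ center G → a * b ∈ center G)
    {a : G} (ha : σ a = a) (haU : a ∈ normalizer (U : Set G)) (ha2 : a * a ∈ Z)
    (hmov : ∃ z ∈ Z, a * z ≠ z * a) {v : G} (hv : v ∈ U) (hva : a * v * a⁻¹ * v⁻¹ ∈ Z) :
    ∃ w ∈ U, ∃ z ∈ Z, v = w * a * w⁻¹ * a⁻¹ * z := by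
  classical
  let f : G → G := fun w => w * a * w⁻¹ * a⁻¹
  have hfU : ∀ w ∈ U, f w ∈ U := fun w hw => by
    have := mul_mem hw ((mem_normalizer_iff.mp haU _).mp (inv_mem hw))
    simpa [f, mul_assoc] using this
  have hZc : ∀ z ∈ Z, ∀ u ∈ U, u * z = z * u := fun z hz u hu => C.cenU u hu z hz
  let V : Subgroup G :=
    { carrier := {v | v ∈ U ∧ a * v * a⁻¹ * v⁻¹ ∈ Z}
      one_mem' := ⟨one_mem _, by simpa using one_mem Z⟩
      mul_mem' := fun {x y} hx hy => ⟨mul_mem hx.1 hy.1, by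
        have e : a * (x * y) * a⁻¹ * (x * y)⁻¹ =
            (a * x * a⁻¹ * x⁻¹) * (x * (a * y * a⁻¹ * y⁻¹) * x⁻¹) := by group
        rw [e, hZc _ hy.2 x hx.1, mul_inv_cancel_right]
        exact mul_mem hx.2 hy.2⟩
      inv_mem' := fun {x} hx => ⟨inv_mem hx.1, by
        have e : a * x⁻¹ * a⁻¹ * x⁻¹⁻¹ = x⁻¹ * (a * x * a⁻¹ * x⁻¹)⁻¹ * x := by group
        rw [e, hZc _ (inv_mem hx.2) x⁻¹ (inv_mem hx.1), inv_mul_cancel_right]
        exact inv_mem hx.2⟩ }
  let I : Subgroup G :=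
    { carrier := {x | ∃ w ∈ U, ∃ z ∈ Z, x = f w * z}
      one_mem' := ⟨1, one_mem _, 1, one_mem _, by simp [f]⟩
      mul_mem' := by
        rintro _ _ ⟨w1, hw1, z1, hz1, rfl⟩ ⟨w2, hw2, z2, hz2, rfl⟩
        set c := (w1 * f w2 * w1⁻¹ * (f w2)⁻¹) * (f w2 * f w1 * (f w2)⁻¹ * (f w1)⁻¹) with hc
        have hcZ : c ∈ Z :=
          mul_mem (C.comU _ hw1 _ (hfU _ hw2)) (C.comU _ (hfU _ hw2) _ (hfU _ hw1))
        refine ⟨w1 * w2, mul_mem hw1 hw2, c⁻¹ * (z1 * z2),
          mul_mem (inv_mem hcZ) (mul_mem hz1 hz2), ?_⟩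
        have e : f (w1 * w2) = c * (f w1 * f w2) := by simp only [f, hc]; group
        calc f w1 * z1 * (f w2 * z2) = f w1 * (z1 * f w2) * z2 := by group
          _ = f w1 * (f w2 * z1) * z2 := by rw [hZc z1 hz1 _ (hfU _ hw2)]
          _ = (f w1 * f w2 * c) * (c⁻¹ * (z1 * z2)) := by group
          _ = _ := by rw [hZc c hcZ _ (mul_mem (hfU _ hw1) (hfU _ hw2)), ← e]
      inv_mem' := by
        rintro _ ⟨w, hw, z, hz, rfl⟩
        refine ⟨w, hw, (f w * f w)⁻¹ * z⁻¹,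
          mul_mem (inv_mem (C.sqU _ (hfU _ hw))) (inv_mem hz), ?_⟩
        rw [mul_inv_rev, ← hZc z⁻¹ (inv_mem hz) _ (inv_mem (hfU _ hw))]
        group }
  have hfa : ∀ w : G, a * w * a⁻¹ * w⁻¹ = (f w)⁻¹ := fun w => by simp only [f]; group
  have hIV : I ≤ V := by
    rintro _ ⟨w, hw, z, hz, rfl⟩
    have hzV : z ∈ V := ⟨C.Z_le_U hz, by
      have := mul_mem (conj_mem_Z C ha haU hz) (inv_mem hz)
      simpa [mul_assoc] using this⟩
    refine V.mul_mem ⟨hfU w hw, ?_⟩ hzV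
    have hq : a * a * w⁻¹ = w⁻¹ * (a * a) := (hZc _ ha2 _ (inv_mem hw)).symm
    have e : a * f w * a⁻¹ = (f w)⁻¹ := by
      calc a * f w * a⁻¹ = (a * w * a⁻¹) * (a * a * w⁻¹) * (a * a)⁻¹ := by simp only [f]; group
        _ = (a * w * a⁻¹) * (w⁻¹ * (a * a)) * (a * a)⁻¹ := by rw [hq]
        _ = _ := by rw [← hfa w]; group
    rw [e]
    have := inv_mem (C.sqU _ (hfU w hw))
    simpa using this
  have hInvV : ∀ u ∈ I, σ u ∈ I := by
    rintro _ ⟨w, hw, z, hz, rfl⟩
    refine ⟨σ w, C.invU w hw, z, hz, ?_⟩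
    simp only [f, map_mul, map_inv, ha, C.fixZ hz]
  -- commutators in `V` are central
  have hVc : ∀ x ∈ V, ∀ y ∈ V, x * y * x⁻¹ * y⁻¹ ∈ Z ⊓ center G := by
    intro x hx y hy
    have hcZ := C.comU x hx.1 y hy.1
    refine ⟨hcZ, ?_⟩
    by_contra hcc
    obtain ⟨z, hz, hne⟩ := hmov
    refine hne (comm_all h2 hcZ hcc ?_ z hz)
    set cx := a * x * a⁻¹ * x⁻¹ with hcx
    set cy := a * y * a⁻¹ * y⁻¹ with hcy
    have e : a * (x * y * x⁻¹ * y⁻¹) * a⁻¹ = (cx * x) * (cy * y) * (cx * x)⁻¹ * (cy * y)⁻¹ := by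
      rw [hcx, hcy]; group
    have hz1 : ∀ c ∈ Z, ∀ u ∈ U, c * u * c⁻¹ * u⁻¹ = 1 := fun c hc u hu => by
      rw [← hZc c hc u hu, mul_inv_cancel_right, mul_inv_cancel]
    have e2 : (cx * x) * (cy * y) * (cx * x)⁻¹ * (cy * y)⁻¹ = x * y * x⁻¹ * y⁻¹ := by
      rw [comm_mul C (C.Z_le_U hx.2) hx.1 (mul_mem (C.Z_le_U hy.2) hy.1),
        comm_mul_right C (C.Z_le_U hy.2) hy.1 hx.1,
        hz1 cx hx.2 _ (mul_mem (C.Z_le_U hy.2) hy.1), one_mul,
        show x * cy * x⁻¹ * cy⁻¹ = 1 by rw [hZc cy hy.2 x hx.1, mul_inv_cancel_right, mul_inv_cancel],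
        one_mul]
    rw [e2] at e
    calc a * (x * y * x⁻¹ * y⁻¹) = (a * (x * y * x⁻¹ * y⁻¹) * a⁻¹) * a := by group
      _ = _ := by rw [e]
  -- some commutator with `a` lies outside `Z`
  obtain ⟨i₀, hi₀, hi₀Z⟩ : ∃ i ∈ I, i ∉ Z := by
    by_contra hall
    push Not at hall
    apply hZ
    have hUV : ∀ u ∈ U, u ∈ V := fun u hu => ⟨hu, by
      rw [hfa]
      exact inv_mem (hall _ ⟨u, hu, 1, one_mem _, (mul_one _).symm⟩)⟩
    exact (Z_le_of_comm C inf_le_left fun u hu w hw => hVc u (hUV u hu) w (hUV w hw)).trans inf_le_right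
  let ε : G → ℤ := fun g => if g = 1 then 1 else -1
  have hε : ∀ x ∈ Z ⊓ center G, ∀ y ∈ Z ⊓ center G, ε (x * y) = ε x * ε y := by
    intro x hx y hy
    by_cases hx1 : x = 1
    · simp [ε, hx1]
    by_cases hy1 : y = 1
    · simp [ε, hy1]
    have := two_center C hx.1 hx.2 hy.1 hy.2 hx1 hy1
    subst this
    simp [ε, C.sqZ x hx.1, hx1]
  let bl : I → (V →* ℤ) := fun i =>
    { toFun := fun x => ε ((x : G) * i * (x : G)⁻¹ * (i : G)⁻¹)
      map_one' := by simp [ε]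
      map_mul' := fun x y => by
        have hi := hIV i.2
        rw [← hε _ (hVc _ x.2 _ hi) _ (hVc _ y.2 _ hi), ← comm_mul C x.2.1 y.2.1 hi.1]
        simp }
  let br : V → (I →* ℤ) := fun x =>
    { toFun := fun i => ε ((x : G) * i * (x : G)⁻¹ * (i : G)⁻¹)
      map_one' := by simp [ε]
      map_mul' := fun i j => by
        rw [← hε _ (hVc _ x.2 _ (hIV i.2)) _ (hVc _ x.2 _ (hIV j.2)),
          ← comm_mul_right C (hIV i.2).1 (hIV j.2).1 x.2.1]
        simp }
  have hZI : Z ≤ I := fun z hz => ⟨1, one_mem _, z, hz, by simp [f]⟩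
  have hkey := card_mul_le_of_pairing bl br (fun _ _ => rfl) (Z.subgroupOf V) (fun x hx => by
      rw [mem_subgroupOf]
      have hcom : ∀ i ∈ I, Commute (x : G) i := by
        intro i hi
        have h := DFunLike.congr_fun hx ⟨i, hi⟩
        have h' : (x : G) * i * (x : G)⁻¹ * i⁻¹ = 1 := by
          by_contra hne
          simp [br, ε, hne] at h
        exact commutatorElement_eq_one_iff_commute.mp h'
      refine hL.hQ i₀ (hIV hi₀).1 hi₀Z (fun k => ?_) x x.2.1 (fun k => ?_)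
      · exact (hVc _ (hIV (pow_mem hInvV hi₀ k)) _ (hIV hi₀)).2
      · exact (hcom _ (pow_mem hInvV hi₀ k)).symm)
    (Z.subgroupOf I) (fun i hi => by
      ext x
      have h1 : (x : G) * i * (x : G)⁻¹ * (i : G)⁻¹ = 1 := by
        rw [hZc (i : G) (mem_subgroupOf.mp hi) (x : G) x.2.1, mul_inv_cancel_right, mul_inv_cancel]
      simp [bl, ε, h1])
  rw [Nat.card_congr (subgroupOfEquivOfLe hZI).toEquiv,
    Nat.card_congr (subgroupOfEquivOfLe (hZI.trans hIV)).toEquiv] at hkey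
  have hVI : I = V := eq_of_le_of_card_ge hIV (Nat.le_of_mul_le_mul_left hkey Nat.card_pos)
  have : v ∈ I := hVI ▸ (⟨hv, hva⟩ : v ∈ V)
  exact this

end H10.Shult.Rank
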