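import Cfsg.Agent.H10.Shult.RankConj
import Cfsg.Agent.H10.Shult.Central
import Cfsg.Agent.H10.Shult.EndgameMain
import Cfsg.Agent.H3.Shult.Blocks

/-!
Statement S3041, the case where `Z` has index at most two over its central part: it cannot occur.
If `Z` is central a transfer contradicts perfectness; otherwise the noncentral element of `Z` is
isolated modulo the central part, so the `Z*`-theorem makes it central.
-/

set_option autoImplicit false
set_option linter.all false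

open Subgroup
open H85.Shult (Inv disp fixed Cfg)

namespace H10.Shult.Rank

variable {G : Type*} [Group G] [Finite G] {σ : MulAut G} {r m p : ℕ} {S U Z : Subgroup G}
  (C : Cfg σ r m p S U Z)
include C

/-- `Z` is not central. -/
theorem not_Z_le_center (hL : Loc σ U Z) : ¬ Z ≤ center G := by
  intro hZc
  classical
  have hcentU : ∀ c : G, σ c = c → c ∈ normalizer (U : Set G) → ∀ u ∈ U, c * u = u * c :=
    fun c hc hcN => hL.cent c hc hcN fun z hz => mem_center_iff.mp (hZc hz) c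
  set A : Subgroup G := S ⊓ fixed σ with hA
  have haU : ∀ a ∈ A, ∀ u ∈ U, a * u = u * a := fun a ha =>
    hcentU a ha.2 (C.S_le_normU ha.1)
  set A' := A.subgroupOf S with hA'
  haveI : A'.Normal := by
    refine ⟨fun t ht s => ?_⟩
    obtain ⟨u, hu, a, haS, haf, he⟩ := exists_US C s.2
    have htA : (t : G) ∈ A := ht
    have hconj : a * t * a⁻¹ ∈ A := mul_mem (mul_mem ⟨haS, haf⟩ htA) (inv_mem ⟨haS, haf⟩)
    show (s : G) * t * (s : G)⁻¹ ∈ A
    rw [he, show u * a * t * (u * a)⁻¹ = u * (a * t * a⁻¹) * u⁻¹ by group,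
      ← haU _ hconj u hu, mul_inv_cancel_right]
    exact hconj
  have hW : ∀ q : S ⧸ A', q * q = 1 := by
    intro q
    obtain ⟨s, rfl⟩ := QuotientGroup.mk_surjective q
    obtain ⟨u, hu, a, haS, haf, he⟩ := exists_US C s.2
    rw [← QuotientGroup.mk_mul, QuotientGroup.eq_one_iff]
    show (s : G) * s ∈ A
    rw [he, show u * a * (u * a) = u * (a * u) * a by group, haU a ⟨haS, haf⟩ u hu,
      show u * (u * a) * a = (u * u) * (a * a) by group]
    exact mul_mem ⟨C.U_le_S (mul_mem hu hu), C.fixZ (C.sqU u hu)⟩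
      (mul_mem (⟨haS, haf⟩ : a ∈ A) (⟨haS, haf⟩ : a ∈ A))
  have hcomm : ∀ a b : S ⧸ A', a * b = b * a := by
    intro a b
    have hi : ∀ q : S ⧸ A', q⁻¹ = q := fun q => inv_eq_of_mul_eq_one_right (hW q)
    rw [← hi (a * b), mul_inv_rev, hi, hi]
  letI : CommGroup (S ⧸ A') := { (inferInstance : Group (S ⧸ A')) with mul_comm := hcomm }
  let ϕ : S →* S ⧸ A' :=
    { toFun := fun s => QuotientGroup.mk s, map_one' := rfl, map_mul' := fun _ _ => rfl }
  obtain ⟨u, hu, hmov⟩ := C.exists_moved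
  have hker : ∀ z : S, (z : G) ∈ center G → ϕ z = 1 := fun z hz =>
    (QuotientGroup.eq_one_iff z).mpr ⟨z.2, C.center_fix _ hz⟩
  have hSne : normalizer (S : Set G) ≠ ⊤ := normalizer_ne_top C C.invS C.pS fun h =>
    not_U_le_center C (C.U_le_S.trans h)
  obtain ⟨K, hKH, hKp, hKi, hHK, hpow⟩ := C.small _ (inv_normalizer C.invS) hSne
  set D := disp σ (normalizer (S : Set G)) with hD
  have hDN : D ≤ normalizer (S : Set G) := H85.Shult.disp_le (inv_normalizer C.invS)
  haveI : Fact (Nat.Prime 2) := ⟨Nat.prime_two⟩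
  have hPs : H41.Shult.IsSylTwo D (S ⊓ D) := by
    refine ⟨inf_le_right, C.pS.to_le inf_le_left, fun T hT hT2 => ?_⟩
    have hST : IsPGroup 2 ↥(S ⊔ T) := C.pS.to_sup_of_normal_left' hT2 (hT.trans hDN)
    have hc := (syl C).card_le le_top hST
    have : T ≤ S := by
      rw [eq_of_le_of_card_ge (le_sup_left : S ≤ S ⊔ T) hc]
      exact le_sup_right
    exact ⟨1, one_mem _, fun t ht => by simpa using ⟨this ht, hT ht⟩⟩
  refine not_perfect_of_weakly_central S C.pS C.indexS hW ϕ hker ⟨u, C.U_le_S hu⟩ ?_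
    (hZc (C.sqU u hu)) ?_ ?_ C.perfect
  · intro h
    exact hmov ((QuotientGroup.eq_one_iff _).mp h).2
  · intro s hs
    obtain ⟨v, hv, a, haS, haf, rfl⟩ := exists_US C hs
    show v * a * u * (v * a)⁻¹ * u⁻¹ ∈ center G
    rw [show v * a * u * (v * a)⁻¹ * u⁻¹ = v * (a * u) * a⁻¹ * v⁻¹ * u⁻¹ by group,
      haU a ⟨haS, haf⟩ u hu, show v * (u * a) * a⁻¹ * v⁻¹ * u⁻¹ = v * u * v⁻¹ * u⁻¹ by group]
    exact hZc (C.comU v hv u hu)
  · intro n hn hmem
    obtain ⟨d, hd, f, hf, hff, rfl⟩ := exists_disp_mul C.hr C.hσ C.hcop (inv_normalizer C.invS) hn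
    have hfN : f ∈ normalizer (U : Set G) := by
      refine mem_normalizer_of_conj fun t ht => ?_
      have h1 : cj f S ≤ S := cj_le fun s hs => (mem_normalizer_iff.mp hf s).mp hs
      have h2 := H85.Shult.disp_mono (σ := σ) h1
      rw [disp_cj hff, ← C.defU] at h2
      exact h2 (conj_mem_cj ht)
    have hfu := hcentU f hff hfN u hu
    obtain ⟨k, hk, s, hs, rfl⟩ := exists_decomp (hDN.trans hHK) hPs hpow hd
    have hsuS : s * u * s⁻¹ ∈ S := mul_mem (mul_mem hs.1 (C.U_le_S hu)) (inv_mem hs.1)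
    have hksu : k * (s * u * s⁻¹) * k⁻¹ = s * u * s⁻¹ :=
      conj_eq_self C.hp C.hp2 hKp C.pS hk hsuS (hHK (le_normalizer hsuS))
        ((mem_normalizer_iff.mp (hKH hk) _).mp hsuS)
    have hn' : k * s * f * u * (k * s * f)⁻¹ = s * u * s⁻¹ := by
      rw [show k * s * f * u * (k * s * f)⁻¹ = k * (s * (f * u) * f⁻¹ * s⁻¹) * k⁻¹ by group, hfu,
        show k * (s * (u * f) * f⁻¹ * s⁻¹) * k⁻¹ = k * (s * u * s⁻¹) * k⁻¹ by group, hksu]
    obtain ⟨v, hv, a, haS, haf, rfl⟩ := exists_US C hs.1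
    have he : v * a * u * (v * a)⁻¹ = (v * u * v⁻¹ * u⁻¹) * u := by
      rw [show v * a * u * (v * a)⁻¹ = v * (a * u) * a⁻¹ * v⁻¹ by group, haU a ⟨haS, haf⟩ u hu]
      group
    have hz : v * u * v⁻¹ * u⁻¹ ∈ S := C.U_le_S (C.Z_le_U (C.comU v hv u hu))
    have : (⟨_, hmem⟩ : S) = ⟨_, hz⟩ * ⟨u, C.U_le_S hu⟩ := Subtype.ext (hn'.trans he)
    rw [this, map_mul, hker ⟨_, hz⟩ (hZc (C.comU v hv u hu)), one_mul]

/-- Elements of `U` with central commutator with `w`. -/
def cenMod (w : G) (hw : w ∈ U) : Subgroup G where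
  carrier := {x | x ∈ U ∧ x * w * x⁻¹ * w⁻¹ ∈ center G}
  one_mem' := ⟨one_mem _, by simpa using one_mem (center G)⟩
  mul_mem' := fun {x y} hx hy => ⟨mul_mem hx.1 hy.1, by
    rw [comm_mul C hx.1 hy.1 hw]; exact mul_mem hx.2 hy.2⟩
  inv_mem' := fun {x} hx => ⟨inv_mem hx.1, by
    have h := comm_mul C hx.1 (inv_mem hx.1) hw
    rw [mul_inv_cancel] at h
    rw [show x⁻¹ * w * x⁻¹⁻¹ * w⁻¹ = (x * w * x⁻¹ * w⁻¹)⁻¹ from
      (inv_eq_of_mul_eq_one_right (h.symm.trans (by simp))).symm]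
    exact inv_mem hx.2⟩

omit [Finite G] C in
theorem pow_two_modEq {m t : ℕ} (ht : 0 < t) (htm : t ≤ 2 * m)
    (h : 2 ^ t ≡ 1 [MOD 2 ^ m + 1]) : t = 2 * m := by
  have hd : 2 ^ m + 1 ∣ 2 ^ t - 1 := (Nat.modEq_iff_dvd' Nat.one_le_two_pow).mp h.symm
  by_contra hne
  rcases Nat.lt_or_ge m t with hmt | hmt
  · set s := t - m with hs
    have hts : t = m + s := by omega
    have hsm : s < m := by omega
    have h2 : 2 ^ m + 1 ∣ (2 ^ t - 1) + (2 ^ s + 1) := by
      have e : (2 ^ t - 1) + (2 ^ s + 1) = 2 ^ s * (2 ^ m + 1) := by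
        have := Nat.one_le_two_pow (n := t)
        rw [mul_add, mul_one, ← pow_add, add_comm s m, ← hts]
        omega
      rw [e]; exact Dvd.intro_left _ rfl
    have h3 := Nat.le_of_dvd (by positivity) ((Nat.dvd_add_right hd).mp h2)
    have h4 : 2 ^ s < 2 ^ m := Nat.pow_lt_pow_right (by norm_num) hsm
    omega
  · have h1 : 1 < 2 ^ t := Nat.one_lt_two_pow ht.ne'
    have h2 : 2 ^ t ≤ 2 ^ m := Nat.pow_le_pow_right (by norm_num) hmt
    have h3 := Nat.le_of_dvd (by omega) hd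
    omega

/-- The centraliser in `U` of an element outside `Z` has a noncentral square. -/
theorem exists_sq_out (hL : Loc σ U Z) (hZ : ¬ Z ≤ center G)
    (h2 : ∀ a ∈ Z, ∀ b ∈ Z, a ∉ center G → b ∉ center G → a * b ∈ center G)
    {u : G} (hu : u ∈ U) (huZ : u ∉ Z) : ∃ v ∈ U, u * v = v * u ∧ v * v ∉ center G := by
  classical
  by_contra hn
  have hall : ∀ v ∈ U, u * v = v * u → v * v ∈ center G := fun v hv hc => by
    by_contra h; exact hn ⟨v, hv, hc, h⟩
  have hpk : ∀ {x : G}, x ∈ U → ∀ k : ℕ, (σ ^ k) x ∈ U := fun hx k => pow_mem C.invU hx k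
  have hrodd : Odd r := by
    rw [C.hrm]; exact (Nat.even_pow.mpr ⟨even_two, C.m_pos.ne'⟩).add_one
  -- translates of `u` commute modulo the centre
  have hsing : ∀ k : ℕ, u * (σ ^ k) u * u⁻¹ * ((σ ^ k) u)⁻¹ ∈ center G := by
    have h2i : ∀ i : ℕ, u * (σ ^ (2 * i)) u * u⁻¹ * ((σ ^ (2 * i)) u)⁻¹ ∈ center G := by
      intro i
      set j := (r - 1) * i with hj
      set A := (σ ^ i) u with hA
      set B := (σ ^ j) u with hB
      have hij : (σ ^ i) B = u := by
        rw [hB, ← MulAut.mul_apply, ← pow_add, show i + j = r * i by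
          rw [hj]; have := C.hr.one_le; cases r with
          | zero => omega
          | succ n => rw [Nat.succ_sub_one, Nat.succ_mul, add_comm],
          pow_mul, C.hσ, one_pow, MulAut.one_apply]
      have e1 : u * B * u⁻¹ * B⁻¹ = u * A * u⁻¹ * A⁻¹ := by
        have h := comm_sigma C hu (hpk hu j) i
        rw [← hB, ← hA, hij] at h
        rw [← h, comm_symm C hu (hpk hu i)]
      have hAB : u * (A * B) = A * B * u := by
        have h := comm_mul_right C (hpk hu i) (hpk hu j) hu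
        rw [← hA, ← hB, e1, C.sqZ _ (C.comU u hu A (hpk hu i))] at h
        exact commutatorElement_eq_one_iff_commute.mp h
      have h := hall _ (mul_mem (hpk hu i) (hpk hu j)) hAB
      rw [sq_mul C (hpk hu i) (hpk hu j), ← map_mul, ← map_mul,
        pow_fixed (C.fixZ (C.sqU u hu)), pow_fixed (C.fixZ (C.sqU u hu)),
        C.sqZ _ (C.sqU u hu), one_mul, ← comm_sigma C (hpk hu j) (hpk hu i) i, hij,
        ← MulAut.mul_apply, ← pow_add, ← two_mul] at h
      exact h
    intro k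
    obtain ⟨t, ht⟩ := hrodd
    have h := h2i (k * (t + 1))
    rwa [show 2 * (k * (t + 1)) = r * k + k by rw [ht]; ring, pow_add, pow_mul, C.hσ, one_pow,
      one_mul] at h
  -- a block avoiding the central involution
  obtain ⟨z, hz, hz1, hzsel⟩ : ∃ z ∈ Z, z ≠ 1 ∧ ∀ a ∈ Z, a ∈ center G → a ≠ 1 → a = z := by
    by_cases h : ∃ a ∈ Z, a ∈ center G ∧ a ≠ 1
    · obtain ⟨a, ha, hac, ha1⟩ := h
      exact ⟨a, ha, ha1, fun b hb hbc hb1 => two_center C hb hbc ha hac hb1 ha1⟩
    · obtain ⟨e, he, hec⟩ := SetLike.not_le_iff_exists.mp hZ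
      exact ⟨e, he, fun h' => hec (h' ▸ one_mem _), fun a ha hac ha1 => absurd ⟨a, ha, hac, ha1⟩ h⟩
  obtain ⟨Z₁, R, hZ1, hzZ1, hrel, -, hR, hRidx⟩ := C.blocks z hz hz1
  have hZ1c : ∀ a ∈ Z₁, a ∈ center G → a = 1 := fun a ha hac => by
    by_contra ha1; exact hzZ1 (hzsel a (hZ1 ha) hac ha1 ▸ ha)
  have hZ1two : ∀ a ∈ Z₁, ∀ b ∈ Z₁, a ≠ 1 → b ≠ 1 → a = b := by
    intro a ha b hb ha1 hb1
    have hac : a ∉ center G := fun h => ha1 (hZ1c a ha h)
    have hbc : b ∉ center G := fun h => hb1 (hZ1c b hb h)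
    have h := hZ1c _ (mul_mem ha hb) (h2 a (hZ1 ha) b (hZ1 hb) hac hbc)
    rw [eq_inv_of_mul_eq_one_left h, inv_eq_Z C (hZ1 hb)]
  have hRU : ∀ {h : G}, h ∈ R → h ∈ U := fun hh => ((hR _).mp hh).1
  have hRk : ∀ h ∈ R, ∀ k : ℕ, (σ ^ k) h ∈ R := by
    intro h hh k
    refine (hR _).mpr ⟨hpk (hRU hh) k, fun v hv => ?_⟩
    set v' := (σ ^ ((r - 1) * k)) v with hv'
    have hkv : (σ ^ k) v' = v := by
      rw [hv', ← MulAut.mul_apply, ← pow_add, show k + (r - 1) * k = r * k by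
        have := C.hr.one_le; cases r with
        | zero => omega
        | succ n => rw [Nat.succ_sub_one, Nat.succ_mul, add_comm],
        pow_mul, C.hσ, one_pow, MulAut.one_apply]
    rw [← hkv, comm_sigma C (hRU hh) (hpk hv _) k]
    exact ((hR _).mp hh).2 _ (hpk hv _)
  -- squares in the radical are central
  have hsq : ∀ h ∈ R, h * h ∈ center G := by
    intro h hh
    suffices ∃ k, u * (σ ^ k) h = (σ ^ k) h * u by
      obtain ⟨k, hk⟩ := this
      have := hall _ (hpk (hRU hh) k) hk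
      rwa [← map_mul, pow_fixed (C.fixZ (C.sqU h (hRU hh)))] at this
    by_contra hne
    push Not at hne
    set t := u * h * u⁻¹ * h⁻¹ with ht
    have hval : ∀ k, u * (σ ^ k) h * u⁻¹ * ((σ ^ k) h)⁻¹ = t := by
      intro k
      have hm : ∀ j, u * (σ ^ j) h * u⁻¹ * ((σ ^ j) h)⁻¹ ∈ Z₁ := fun j => by
        rw [← comm_symm C hu (hpk (hRU hh) j)]
        exact ((hR _).mp (hRk h hh j)).2 u hu
      have hn1 : ∀ j, u * (σ ^ j) h * u⁻¹ * ((σ ^ j) h)⁻¹ ≠ 1 := fun j he =>
        hne j (commutatorElement_eq_one_iff_commute.mp he)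
      have h0 := hm 0
      have h0' := hn1 0
      rw [pow_zero, MulAut.one_apply] at h0 h0'
      exact hZ1two _ (hm k) _ h0 (hn1 k) h0'
    let P : ℕ → G := fun n => Nat.rec 1 (fun i x => x * (σ ^ i) h) n
    have hPU : ∀ n, P n ∈ U := fun n => by
      induction n with
      | zero => exact one_mem _
      | succ n ih => exact mul_mem ih (hpk (hRU hh) n)
    have hPc : ∀ n, u * P n * u⁻¹ * (P n)⁻¹ = t ^ n := fun n => by
      induction n with
      | zero => simp [P]
      | succ n ih =>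
        show u * (P n * (σ ^ n) h) * u⁻¹ * (P n * (σ ^ n) h)⁻¹ = _
        rw [comm_mul_right C (hPU n) (hpk (hRU hh) n) hu, ih, hval, pow_succ]
    have hPσ : ∀ n, σ (P n) = h⁻¹ * P n * (σ ^ n) h := fun n => by
      induction n with
      | zero => simp [P]
      | succ n ih =>
        show σ (P n * (σ ^ n) h) = _
        rw [map_mul, ih, ← MulAut.mul_apply, ← pow_succ']
        show _ = h⁻¹ * (P n * (σ ^ n) h) * _
        group
    have hPr : P r ∈ Z := by
      refine mem_Z_of_mov C (hPU r) ?_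
      rw [hPσ, C.hσ, MulAut.one_apply]
      have := C.comU h⁻¹ (inv_mem (hRU hh)) (P r) (hPU r)
      simpa using this
    have h1 : t ^ r = 1 := by
      rw [← hPc r, C.cenU u hu _ hPr, mul_inv_cancel_right, mul_inv_cancel]
    have h2' : t ^ 2 = 1 := by rw [pow_two]; exact C.sqZ t (C.comU u hu h (hRU hh))
    obtain ⟨q, hq⟩ := hrodd
    rw [hq, pow_succ, pow_mul, h2', one_pow, one_mul] at h1
    exact hne 0 (by
      rw [pow_zero, MulAut.one_apply]; exact commutatorElement_eq_one_iff_commute.mp h1)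
  have hRab : ∀ g ∈ R, ∀ h ∈ R, g * h = h * g := by
    intro g hg h hh
    have h1 := hsq _ (mul_mem hg hh)
    rw [sq_mul C (hRU hg) (hRU hh)] at h1
    have h3 : h * g * h⁻¹ * g⁻¹ ∈ center G := by
      have := mul_mem (inv_mem (mul_mem (hsq g hg) (hsq h hh))) h1
      rwa [inv_mul_cancel_left] at this
    have h4 := hZ1c _ (((hR h).mp hh).2 g (hRU hg)) h3
    exact (commutatorElement_eq_one_iff_commute.mp h4).symm
  have hRZ : R = Z := by
    refine le_antisymm (fun h hh => ?_) (fun w hw => (hR w).mpr ⟨C.Z_le_U hw, fun v hv => ?_⟩)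
    · by_contra hhZ
      refine hhZ (hL.hQ h (hRU hh) hhZ (fun k => ?_) h (hRU hh) fun k => hRab _ (hRk h hh k) h hh)
      rw [hRab _ (hRk h hh k) h hh, mul_inv_cancel_right, mul_inv_cancel]
      exact one_mem _
    · rw [← C.cenU v hv w hw, mul_inv_cancel_right, mul_inv_cancel]; exact one_mem _
  rw [hRZ] at hRidx
  -- so the translates of `u` generate `U` modulo `Z`
  set I : Subgroup G := closure (Set.range fun k : ℕ => (σ ^ k) u) ⊔ Z with hI
  have hIU : I ≤ U := sup_le ((closure_le _).mpr (by rintro _ ⟨k, rfl⟩; exact hpk hu k)) C.Z_le_U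
  have hZI : Z ≤ I := le_sup_right
  have huI : u ∈ I := mem_sup_left (subset_closure ⟨0, rfl⟩)
  have hIi : Inv σ I := by
    refine inv_sup ?_ C.invZ
    intro x hx
    have : (closure (Set.range fun k : ℕ => (σ ^ k) u)).map σ.toMonoidHom ≤
        closure (Set.range fun k : ℕ => (σ ^ k) u) := by
      rw [MonoidHom.map_closure, closure_le]
      rintro _ ⟨_, ⟨k, rfl⟩, rfl⟩
      exact subset_closure ⟨k + 1, by show (σ ^ (k + 1)) u = σ ((σ ^ k) u); rw [pow_succ']; rfl⟩
    exact this (mem_map_of_mem _ hx)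
  set Z' := Z.subgroupOf I with hZ'
  haveI : Z'.Normal := ⟨fun n hn g => by
    show ((g * n * g⁻¹ : I) : G) ∈ Z
    have hn' : (n : G) ∈ Z := hn
    rw [coe_mul, coe_mul, coe_inv, C.cenU _ (hIU g.2) _ hn', mul_inv_cancel_right]
    exact hn'⟩
  let σI : I →* I :=
    { toFun := fun x => ⟨σ x, hIi x x.2⟩
      map_one' := Subtype.ext (map_one σ)
      map_mul' := fun a b => Subtype.ext (map_mul σ (a : G) b) }
  let φI : I ⧸ Z' →* I ⧸ Z' := QuotientGroup.map Z' Z' σI (fun x hx => by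
    show σ (x : G) ∈ Z
    rw [C.fixZ (show (x : G) ∈ Z from hx)]; exact hx)
  let f : Function.End (I ⧸ Z') := fun q => φI q
  have hfk : ∀ (k : ℕ) (x : I), (f ^ k : Function.End _) (QuotientGroup.mk x) =
      QuotientGroup.mk (⟨(σ ^ k) x, pow_mem hIi x.2 k⟩ : I) := by
    intro k
    induction k with
    | zero => intro x; rfl
    | succ k ih =>
      intro x
      rw [pow_succ']
      show f ((f ^ k : Function.End _) (QuotientGroup.mk x)) = _
      rw [ih]
      refine congrArg QuotientGroup.mk (Subtype.ext ?_)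
      show σ ((σ ^ k) (x : G)) = (σ ^ (k + 1)) (x : G)
      rw [pow_succ']; rfl
  have hfr : f ^ r ^ 1 = 1 := by
    funext q
    obtain ⟨x, rfl⟩ := QuotientGroup.mk_surjective q
    rw [pow_one, hfk]
    exact congrArg QuotientGroup.mk (Subtype.ext (show (σ ^ r) (x : G) = x by rw [C.hσ]; rfl))
  haveI := Fact.mk C.hr
  haveI := Fintype.ofFinite (I ⧸ Z')
  have hmod := Equiv.Perm.card_fixedPoints_modEq hfr
  have hfix : Fintype.card f.fixedPoints = 1 := by
    rw [Fintype.card_eq_one_iff]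
    refine ⟨⟨1, map_one φI⟩, ?_⟩
    rintro ⟨q, hq⟩
    obtain ⟨x, rfl⟩ := QuotientGroup.mk_surjective q
    have h1 : (QuotientGroup.mk (σI x) : I ⧸ Z') = QuotientGroup.mk x := hq
    rw [eq_comm, QuotientGroup.eq] at h1
    have h1' : (x : G)⁻¹ * σ x ∈ Z := h1
    have hxZ : (x : G) ∈ Z := by
      refine mem_Z_of_mov C (hIU x.2) ?_
      have e : σ (x : G) * (x : G)⁻¹ = (x : G) * ((x : G)⁻¹ * σ x) * (x : G)⁻¹ := by group
      rw [e, C.cenU _ (hIU x.2) _ h1', mul_inv_cancel_right]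
      exact h1'
    exact Subtype.ext ((QuotientGroup.eq_one_iff x).mpr hxZ)
  rw [hfix, ← Nat.card_eq_fintype_card, ← Subgroup.index_eq_card] at hmod
  have hmul : Z'.index * I.relIndex U = (2 ^ m) ^ 2 := by
    rw [← hRidx, ← relIndex_mul_relIndex Z I U hZI hIU]; rfl
  obtain ⟨t, htm, hte⟩ := (Nat.dvd_prime_pow Nat.prime_two).mp
    (show Z'.index ∣ 2 ^ (2 * m) from ⟨_, by rw [hmul, ← pow_mul, mul_comm]⟩)
  have ht0 : 0 < t := by
    by_contra h0
    have h1 : Z'.index = 1 := by rw [hte, Nat.eq_zero_of_not_pos h0, pow_zero]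
    exact huZ ((Subgroup.relIndex_eq_one.mp h1) huI)
  rw [hte, C.hrm] at hmod
  rw [pow_two_modEq ht0 htm hmod] at hte
  rw [hte, ← pow_mul, mul_comm m 2] at hmul
  have hUI : U ≤ I := relIndex_eq_one.mp (Nat.eq_of_mul_eq_mul_left
    (by positivity : 0 < 2 ^ (2 * m)) (by rw [hmul, mul_one]))
  -- all commutators are central
  have hgen : ∀ k, I ≤ cenMod C ((σ ^ k) u) (hpk hu k) := by
    intro k
    refine sup_le ((closure_le _).mpr ?_) (fun w hw => ⟨C.Z_le_U hw, ?_⟩)
    · rintro _ ⟨j, rfl⟩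
      refine ⟨hpk hu j, ?_⟩
      show (σ ^ j) u * (σ ^ k) u * ((σ ^ j) u)⁻¹ * ((σ ^ k) u)⁻¹ ∈ center G
      rcases Nat.le_total j k with hle | hle
      · obtain ⟨d, rfl⟩ := Nat.exists_eq_add_of_le hle
        rw [pow_add, MulAut.mul_apply, comm_sigma C hu (hpk hu d) j]
        exact hsing d
      · obtain ⟨d, rfl⟩ := Nat.exists_eq_add_of_le hle
        rw [comm_symm C (hpk hu k) (hpk hu (k + d)), pow_add, MulAut.mul_apply,
          comm_sigma C hu (hpk hu d) k]
        exact hsing d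
    · rw [← C.cenU _ (hpk hu k) w hw, mul_inv_cancel_right, mul_inv_cancel]; exact one_mem _
  apply hZ
  refine (Z_le_of_comm C inf_le_left fun a ha b hb => ?_).trans inf_le_right
  refine ⟨C.comU a ha b hb, ?_⟩
  have hb' : I ≤ cenMod C b hb := by
    refine sup_le ((closure_le _).mpr ?_) (fun w hw => ⟨C.Z_le_U hw, ?_⟩)
    · rintro _ ⟨j, rfl⟩
      refine ⟨hpk hu j, ?_⟩
      rw [comm_symm C hb (hpk hu j)]
      exact (hgen j (hUI hb)).2
    · rw [← C.cenU b hb w hw, mul_inv_cancel_right, mul_inv_cancel]; exact one_mem _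
  exact (hb' (hUI ha)).2

/-- A conjugate in `S` of a noncentral element of `Z` lies in `Z`. -/
theorem conj_mem_Z_of_mem_S (hL : Loc σ U Z) (hZ : ¬ Z ≤ center G)
    (h2 : ∀ a ∈ Z, ∀ b ∈ Z, a ∉ center G → b ∉ center G → a * b ∈ center G)
    {x g e : G} (hxS : x ∈ S) (he : e ∈ Z) (hec : e ∉ center G) (hx : x = g * e * g⁻¹) :
    x ∈ Z := by
  have hxx : x * x = 1 := by
    rw [hx, show g * e * g⁻¹ * (g * e * g⁻¹) = g * (e * e) * g⁻¹ by group, C.sqZ e he]; group
  obtain ⟨u, hu, a, haS, haf, hxua⟩ := exists_US C hxS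
  have haN := C.S_le_normU haS
  have hau : a * u * a⁻¹ ∈ U := (mem_normalizer_iff.mp haN u).mp hu
  have hprod : u * (a * u * a⁻¹) * (a * a) = 1 := by
    rw [← hxx, hxua]; group
  have haa : a * a ∈ Z := by
    refine C.mem_Z ?_ (by rw [map_mul, haf])
    rw [show a * a = (u * (a * u * a⁻¹))⁻¹ from (inv_eq_of_mul_eq_one_right hprod).symm]
    exact inv_mem (mul_mem hu hau)
  have haua : a * u * a⁻¹ * u⁻¹ ∈ Z := by
    have h1 : a * u * a⁻¹ = u⁻¹ * (a * a)⁻¹ := by
      rw [eq_inv_mul_iff_mul_eq]; exact eq_inv_of_mul_eq_one_left hprod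
    rw [h1, mul_assoc, ← C.cenU u⁻¹ (inv_mem hu) _ (inv_mem haa), ← mul_assoc]
    exact mul_mem (by simpa using inv_mem (C.sqU u hu)) (inv_mem haa)
  by_cases hmov : ∃ z ∈ Z, a * z ≠ z * a
  · obtain ⟨w, hw, z, hz, huw⟩ := free_action C hL hZ h2 haf haN haa hmov hu haua
    set z' := a⁻¹ * z * a with hz'
    have hz'Z : z' ∈ Z := by
      have := conj_mem_Z C (g := a⁻¹) (by rw [map_inv, haf]) (inv_mem haN) hz
      rwa [inv_inv] at this
    have hx' : x = w * (a * z') * w⁻¹ := by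
      rw [hxua, huw]
      calc w * a * w⁻¹ * a⁻¹ * z * a = w * a * (w⁻¹ * z') := by rw [hz']; group
        _ = w * a * (z' * w⁻¹) := by rw [C.cenU w⁻¹ (inv_mem hw) z' hz'Z]
        _ = _ := by group
    have hxS' : a * z' ∈ S := mul_mem haS (C.U_le_S (C.Z_le_U hz'Z))
    have hin : a * z' ∈ Z := conj_fixed_mem_Z C hL hZ h2
      (g := w⁻¹ * g) (by rw [map_mul, haf, C.fixZ hz'Z]) (C.S_le_normU hxS') he hec
      (by rw [show w⁻¹ * g * e * (w⁻¹ * g)⁻¹ = w⁻¹ * (g * e * g⁻¹) * w by group, ← hx, hx']; group)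
    obtain ⟨zz, hzz, hne⟩ := hmov
    have haZ : a ∈ Z := by simpa using mul_mem hin (inv_mem hz'Z)
    exact absurd (C.cenU a (C.Z_le_U haZ) zz hzz) hne
  push Not at hmov
  have hac := hL.cent a haf haN hmov
  by_cases huZ : u ∈ Z
  · exact conj_fixed_mem_Z C hL hZ h2 (g := g)
      (by rw [hxua, map_mul, C.fixZ huZ, haf]) (C.S_le_normU hxS) he hec hx
  obtain ⟨v, hv, huv, hvc⟩ := exists_sq_out C hL hZ h2 hu huZ
  have hxv : x * v = v * x := by
    rw [hxua, mul_assoc, hac v hv, ← mul_assoc, huv, mul_assoc]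
  have hvvZ := C.sqU v hv
  -- `S` is a Sylow subgroup of `nearCen Z e`
  have hSle : S ≤ nearCen Z e := by
    intro s hs
    obtain ⟨u', hu', a', ha'S, ha'f, rfl⟩ := exists_US C hs
    rw [mem_nearCen]
    have h1 : a' * e * a'⁻¹ ∈ Z := conj_mem_Z C ha'f (C.S_le_normU ha'S) he
    have h1c : a' * e * a'⁻¹ ∉ center G := fun h => hec (by
      have := (Subgroup.normal_of_characteristic (center G)).conj_mem _ h a'⁻¹
      simpa [mul_assoc] using this)
    rw [show u' * a' * e * (u' * a')⁻¹ = u' * (a' * e * a'⁻¹) * u'⁻¹ by group,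
      C.cenU u' hu' _ h1, mul_inv_cancel_right, inv_eq_Z C he]
    exact ⟨mul_mem h1 he, h2 _ h1 e he h1c hec⟩
  have hSs : H41.Shult.IsSylTwo (nearCen Z e) S := by
    obtain ⟨P, hPi, hSP, hPs⟩ := H41.Shult.exists_inv_syl_ge C.hr C.hσ C.hcop
      (H := nearCen Z e) (inv_nearCen C (C.fixZ he)) C.invS hSle C.pS
    rwa [eq_of_le_of_card_ge hSP ((syl C).card_le le_top hPs.2.1)]
  have htc : g⁻¹ * v * g ∈ centralizer ({e} : Set G) := by
    rw [mem_centralizer_singleton_iff]
    have : g * e * g⁻¹ * v = v * (g * e * g⁻¹) := by rw [← hx]; exact hxv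
    calc g⁻¹ * v * g * e = g⁻¹ * (v * (g * e * g⁻¹)) * g := by group
      _ = _ := by rw [← this]; group
  have ht2 : IsPGroup 2 (zpowers (g⁻¹ * v * g)) := by
    have h1 : IsPGroup 2 (zpowers v) := C.pU.to_le (zpowers_le.mpr hv)
    have := h1.map (MulAut.conj g⁻¹).toMonoidHom
    rw [MonoidHom.map_zpowers] at this
    rwa [show (MulAut.conj g⁻¹).toMonoidHom v = g⁻¹ * v * g by
      show g⁻¹ * v * g⁻¹⁻¹ = _; rw [inv_inv]] at this
  obtain ⟨h, hh, hhc⟩ := hSs.2.2 _
    (zpowers_le.mpr (centralizer_le_nearCen Z e htc)) ht2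
  have hwS := hhc _ (mem_zpowers _)
  rw [mem_centralizer_singleton_iff] at htc
  rw [mem_nearCen] at hh
  set z₁ := h * e * h⁻¹ * e⁻¹ with hz1
  set w := h * (g⁻¹ * v * g) * h⁻¹ with hwd
  have hze : h * e * h⁻¹ = z₁ * e := by rw [hz1]; group
  have hwe : w * e = e * w := by
    have h1 : Commute w (z₁ * e) := by
      rw [← hze]
      show w * (h * e * h⁻¹) = h * e * h⁻¹ * w
      calc w * (h * e * h⁻¹) = h * (g⁻¹ * v * g * e) * h⁻¹ := by rw [hwd]; group
        _ = _ := by rw [htc, hwd]; group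
    have h2' : Commute w z₁ := mem_center_iff.mp hh.2 w
    have := h2'.inv_right.mul_right h1
    rwa [inv_mul_cancel_left] at this
  obtain ⟨u', hu', a', ha'S, ha'f, hw'⟩ := exists_US C hwS
  have ha'e : a' * e = e * a' := by
    have h1 : Commute (u' * a') e := by rw [← hw']; exact hwe
    have h2' : Commute u' e := C.cenU u' hu' e he
    have := h2'.inv_left.mul_left h1
    rwa [inv_mul_cancel_left] at this
  have ha'u := hL.cent a' ha'f (C.S_le_normU ha'S) (comm_all h2 he hec ha'e)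
  have hwwf : σ (w * w) = w * w := by
    have e' : w * w = (u' * u') * (a' * a') := by
      rw [hw', show u' * a' * (u' * a') = u' * (a' * u') * a' by group, ha'u u' hu']; group
    rw [e', map_mul, C.fixZ (C.sqU u' hu'), map_mul, ha'f]
  have hwwg : w * w = (h * g⁻¹) * (v * v) * (h * g⁻¹)⁻¹ := by rw [hwd]; group
  have hwwZ := conj_fixed_mem_Z C hL hZ h2 hwwf (C.S_le_normU (mul_mem hwS hwS)) hvvZ hvc hwwg
  have hwwc : w * w ∉ center G := fun hc => hvc (by
    have := (Subgroup.normal_of_characteristic (center G)).conj_mem _ hc (h * g⁻¹)⁻¹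
    rw [hwwg] at this
    simpa [mul_assoc] using this)
  set c := w * w * (z₁ * e) with hc
  have hze' : z₁ * e ∈ Z := mul_mem hh.1 he
  have hcc : c ∈ center G := h2 _ hwwZ _ hze' hwwc (not_center_mul hh.2 hec)
  have hcx : v * v * x = c := by
    have e' : c = (h * g⁻¹) * (v * v * x) * (h * g⁻¹)⁻¹ := by
      rw [hc, hwwg, ← hze, hx]; group
    have h1 : (h * g⁻¹)⁻¹ * c * (h * g⁻¹) = v * v * x := by rw [e']; group
    rw [mem_center_iff.mp hcc, mul_assoc, inv_mul_cancel, mul_one] at h1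
    exact h1.symm
  have : x = (v * v)⁻¹ * c := by rw [← hcx]; group
  rw [this]
  exact mul_mem (inv_mem hvvZ) (mul_mem hwwZ hze')

/-- The rank one case does not occur. -/
theorem rank_le_one_of_loc (hL : Loc σ U Z) (h : (Z ⊓ center G).relIndex Z ≤ 2) : False := by
  classical
  have hZ := not_Z_le_center C hL
  set Z0 := Z ⊓ center G with hZ0
  have hidx : (Z0.subgroupOf Z).index = 2 := by
    have h1 : (Z0.subgroupOf Z).index ≠ 1 := fun h1 =>
      hZ ((relIndex_eq_one.mp h1).trans inf_le_right)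
    have h0 : (Z0.subgroupOf Z).index ≠ 0 := Subgroup.index_ne_zero_of_finite
    have : (Z0.subgroupOf Z).index ≤ 2 := h
    omega
  have h2 : ∀ a ∈ Z, ∀ b ∈ Z, a ∉ center G → b ∉ center G → a * b ∈ center G := by
    intro a ha b hb hac hbc
    have := (mul_mem_iff_of_index_two hidx (a := (⟨a, ha⟩ : Z)) (b := ⟨b, hb⟩)).mpr
      ⟨fun h' => absurd h'.2 hac, fun h' => absurd h'.2 hbc⟩
    exact this.2
  obtain ⟨e, he, hec⟩ := SetLike.not_le_iff_exists.mp hZ
  haveI hZ0n : Z0.Normal := ⟨fun z hz g => by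
    rw [mem_center_iff.mp hz.2 g, mul_inv_cancel_right]; exact hz⟩
  set π := QuotientGroup.mk' Z0 with hπ
  have hiso : Cfsg.IsIsolatedInvolution (π e) := by
    haveI : Fact (Nat.Prime 2) := ⟨Nat.prime_two⟩
    refine ⟨orderOf_eq_prime (by rw [← map_pow, pow_two, C.sqZ e he, map_one]) ?_, ?_⟩
    · rw [hπ, QuotientGroup.mk'_apply, Ne, QuotientGroup.eq_one_iff]
      exact fun h' => hec h'.2
    intro g' hg'
    obtain ⟨g, rfl⟩ := QuotientGroup.mk'_surjective Z0 g'
    rw [← map_inv, ← map_mul, ← map_mul] at hg' ⊢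
    set e' := g * e * g⁻¹ with he'
    have he'2 : e' * e' = 1 := by
      rw [he', show g * e * g⁻¹ * (g * e * g⁻¹) = g * (e * e) * g⁻¹ by group, C.sqZ e he]; group
    have hk : (e * e') * (e * e') ∈ Z0 := by
      rw [← QuotientGroup.eq_one_iff, ← QuotientGroup.mk'_apply, ← hπ, map_mul]
      rw [map_mul]
      conv_lhs => rw [mul_assoc, ← mul_assoc (π e') (π e), ← hg'.eq, mul_assoc, ← mul_assoc (π e),
        ← map_mul, C.sqZ e he, map_one, one_mul, ← map_mul, he'2, map_one]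
    have hT : IsPGroup 2 ↥(closure ({e, e'} : Set G)) := by
      refine isPGroup_closure_pair (C.sqZ e he) he'2 ⟨2, ?_⟩
      rw [show (2 : ℕ) ^ 2 = 2 * 2 from rfl, pow_mul, pow_two, pow_two]
      exact C.sqZ _ hk.1
    obtain ⟨k, -, hkS⟩ := (syl C).2.2 _ le_top hT
    have ha := hkS e (subset_closure (Set.mem_insert _ _))
    have hb := hkS e' (subset_closure (Set.mem_insert_of_mem _ rfl))
    have haZ := conj_mem_Z_of_mem_S C hL hZ h2 (g := k) ha he hec rfl
    have hbZ := conj_mem_Z_of_mem_S C hL hZ h2 (g := k * g) hb he hec (by rw [he']; group)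
    have hnc : ∀ j : G, j * e * j⁻¹ ∉ center G := fun j h' => hec (by
      have := (Subgroup.normal_of_characteristic (center G)).conj_mem _ h' j⁻¹
      simpa [mul_assoc] using this)
    have hbc : k * e' * k⁻¹ ∉ center G := by
      rw [he', show k * (g * e * g⁻¹) * k⁻¹ = (k * g) * e * (k * g)⁻¹ by group]; exact hnc _
    have hab := h2 _ hbZ _ haZ hbc (hnc k)
    have hq : k * e' * k⁻¹ * (k * e * k⁻¹) = e' * e := by
      have e1 : k * e' * k⁻¹ * (k * e * k⁻¹) = k * (e' * e) * k⁻¹ := by group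
      have h3 : e' * e ∈ center G := by
        have := (Subgroup.normal_of_characteristic (center G)).conj_mem _ hab k⁻¹
        rw [e1] at this
        simpa [mul_assoc] using this
      rw [e1, mem_center_iff.mp h3 k, mul_inv_cancel_right]
    rw [hq] at hab
    rw [QuotientGroup.mk'_apply, QuotientGroup.mk'_apply, QuotientGroup.eq]
    rw [inv_eq_of_mul_eq_one_right he'2]
    exact ⟨hq ▸ mul_mem hbZ haZ, hab⟩
  have hO : Cfsg.pPrimeCore 2 G ≤ center G := by
    have hn := H1.pPrimeCore_normal' 2 G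
    refine C.normal_le _ hn ?_ ?_
    · intro x hx
      have hmn : ((Cfsg.pPrimeCore 2 G).map σ.toMonoidHom).Normal := hn.map _ σ.surjective
      have := H1.le_pPrimeCore (N := (Cfsg.pPrimeCore 2 G).map σ.toMonoidHom) (p := 2)
        (by rw [card_map_of_injective σ.injective]; exact H1.card_pPrimeCore_coprime 2 G)
      exact this (mem_map_of_mem _ hx)
    · intro htop
      have hc := H1.card_pPrimeCore_coprime 2 G
      rw [htop, card_top] at hc
      have hdvd : Nat.card U ∣ Nat.card G := card_subgroup_dvd_card U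
      obtain ⟨k, hk⟩ := (IsPGroup.iff_card (p := 2)).mp C.pU
      rcases k.eq_zero_or_pos with rfl | hk0
      · exact C.U_ne_bot (card_eq_one.mp (by rw [hk, pow_zero]))
      · have : 2 ∣ Nat.card G := dvd_trans (by rw [hk]; exact dvd_pow_self 2 hk0.ne') hdvd
        exact Nat.not_coprime_of_dvd_of_dvd one_lt_two this dvd_rfl hc
  have hZC := H85.zStar hiso
  refine hec (mem_center_of_comm C.perfect fun g => ?_)
  refine le_center_of_odd_over hO Z0 (fun z hz => hz.2) (fun z hz => C.sqZ z hz.1) ?_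
  simpa [hπ] using hZC (π g)

end H10.Shult.Rank

namespace H10.Shult

open H85.Shult in
/-- The configuration of statement S3041 has `|Z : Z ∩ Z(G)| > 2`. -/
theorem rank_le_one {G : Type*} [Group G] [Finite G] {σ : MulAut G} {r m p : ℕ} {S U Z : Subgroup G}
    (C : Cfg σ r m p S U Z) (h : (Z ⊓ Subgroup.center G).relIndex Z ≤ 2) : False :=
  Rank.rank_le_one_of_loc C
    ⟨fun c hc hcN hcZ => H3.Shult.cent C hc hcN hcZ,
      fun x hx hxZ hs h' hh hcm => H3.Shult.hQ C hx hxZ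
        (fun k => by rw [commutatorElement_def]; exact hs k) hh hcm⟩ h

end H10.Shult
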