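import Cfsg.Agent.H41.Shult.TwoFuse
import Cfsg.Agent.H66.Inverted

/-!
Shult's fixed point theorem, several radicals: a fixed element of `S` that is an involution modulo
the centre lies in `Z` modulo the centre, if some fixed element lies outside the maximal invariant
overgroup `H₀`.

The key step: for such an element `x` outside `Z` the fixed elements of the centraliser `H` of `x`
modulo the centre lie in `H₀`.  Either the moved part of `H` contains a noncentral element of `Z`,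
or its Sylow 2-subgroup `P` is a nondegenerate irreducible space, centralised by a fixed element of
`H` outside `H₀`; then the automorphisms of `U` fusing `Z ∩ H` form an elementary abelian group
transitive on an odd set of at least three points.
-/

set_option autoImplicit false
set_option linter.all false

open Subgroup
open H85.Shult (Inv disp fixed)
open H41.Shult

namespace H10.Shult.TwoInv

variable {G : Type*} [Group G] [Finite G] {σ : MulAut G} {r m p : ℕ} {S U Z H₀ : Subgroup G}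

omit [Finite G] in
/-- The product of any two elements outside a subgroup of `B` lies in it: the index is at most two. -/
theorem relIndex_le_two {A B : Subgroup G}
    (h : ∀ a ∈ B, ∀ b ∈ B, a ∉ A → b ∉ A → a * b ∈ A) : A.relIndex B ≤ 2 := by
  classical
  let f : B ⧸ A.subgroupOf B → Bool := fun q => decide (q = ((1 : B) : B ⧸ A.subgroupOf B))
  have hf : Function.Injective f := by
    intro q q' e
    obtain ⟨a, rfl⟩ := QuotientGroup.mk_surjective q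
    obtain ⟨b, rfl⟩ := QuotientGroup.mk_surjective q'
    simp only [f, decide_eq_decide] at e
    by_cases ha : (a : B ⧸ A.subgroupOf B) = ((1 : B) : B ⧸ A.subgroupOf B)
    · rw [ha, e.mp ha]
    · have hb := fun hb => ha (e.mpr hb)
      rw [QuotientGroup.eq, mul_one, mem_subgroupOf] at ha hb
      refine QuotientGroup.eq.mpr (mem_subgroupOf.mpr ?_)
      refine h _ (inv_mem a.2) _ b.2 ha fun hbA => hb ?_
      simpa using inv_mem hbA
  have := Nat.card_le_card_of_injective f hf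
  rw [Nat.card_eq_fintype_card (α := Bool), Fintype.card_bool] at this
  exact this

omit [Finite G] in
theorem isPGroup_zpowers {w : G} {n : ℕ} (h : w ^ 2 ^ n = 1) : IsPGroup 2 (zpowers w) := by
  rintro ⟨y, hy⟩
  obtain ⟨i, rfl⟩ := mem_zpowers_iff.mp hy
  refine ⟨n, Subtype.ext ?_⟩
  rw [SubmonoidClass.coe_pow, OneMemClass.coe_one, ← zpow_natCast (w ^ i), ← zpow_mul,
    mul_comm, zpow_mul, zpow_natCast, h, one_zpow]

omit [Finite G] in
theorem conj_center {x y : G} (hx : x * x ∈ center G) : x * x * y * (x * x)⁻¹ = y := by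
  rw [← mem_center_iff.mp hx y, mul_inv_cancel_right]

omit [Finite G] in
/-- Conjugation inverts its own commutators when the square is central. -/
theorem conj_comm {x y : G} (hx : x * x ∈ center G) :
    x * (x * y * x⁻¹ * y⁻¹) * x⁻¹ = (x * y * x⁻¹ * y⁻¹)⁻¹ := by
  have h := conj_center (y := y) hx
  rw [show x * (x * y * x⁻¹ * y⁻¹) * x⁻¹ = (x * x * y * (x * x)⁻¹) * (x * y⁻¹ * x⁻¹) by group, h]
  group

variable (B : Two σ r m p S U Z H₀)
include B

/-- A central element of `U` lies in `Z`. -/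
theorem mem_Z_center {u : G} (hu : u ∈ U) (hc : u ∈ center G) : u ∈ Z :=
  B.mem_Z_of_comm_center hu fun v _ => by
    rw [← mem_center_iff.mp hc v, mul_inv_cancel_right, mul_inv_cancel]
    exact one_mem _

theorem exists_noncentral : ∃ z ∈ Z, z ∉ center G := by
  by_contra hc
  push Not at hc
  have h := B.h4
  rw [relIndex_eq_one.mpr (le_inf le_rfl hc)] at h
  omega

theorem mem_of_central_two {c : G} (hc : c ∈ center G) {n : ℕ} (h : c ^ 2 ^ n = 1) : c ∈ S := by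
  obtain ⟨g, -, hg⟩ := B.conj_into_S_top
    (H10.Shult.Rank.inv_zpowers (B.cfg.center_fix c hc)) (isPGroup_zpowers h)
  have := hg c (mem_zpowers c)
  rwa [mem_center_iff.mp hc g, mul_inv_cancel_right] at this

/-- Moved parts are multiplicative modulo `Z`. -/
theorem mov_mul {a b : G} (ha : a ∈ U) (hb : b ∈ U) :
    (a * b)⁻¹ * σ (a * b) * (a⁻¹ * σ a * (b⁻¹ * σ b))⁻¹ ∈ Z := by
  have h := B.cfg.comU _ (inv_mem hb) _ (mul_mem (inv_mem ha) (B.cfg.invU a ha))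
  rw [inv_inv] at h
  rw [map_mul]
  convert h using 1
  group

section X

variable {x : G} (hxS : x ∈ S) (hx : σ x = x)
include hxS hx

theorem x_conj_U {u : G} (hu : u ∈ U) : x * u * x⁻¹ ∈ U :=
  (mem_normalizer_iff.mp (B.cfg.S_le_normU hxS) u).mp hu

theorem x_conj_Z {z : G} (hz : z ∈ Z) : x * z * x⁻¹ ∈ Z :=
  B.fixed_conj_Z (B.hSM hxS) hx hz (mul_mem (mul_mem hxS (B.hZS hz)) (inv_mem hxS))

/-- Two noncentral elements of `Z` centralised by `x` modulo the centre, with noncentral product. -/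
theorem exists_pair (hx2 : x * x ∈ center G)
    (hF : (Z ⊓ center G).relIndex Z = 4 → ∀ z ∈ Z, z ∉ ncen x → False) :
    ∃ a b : G, a ∈ Z ∧ a ∈ ncen x ∧ a ∉ center G ∧ b ∈ Z ∧ b ∈ ncen x ∧ b ∉ center G ∧
      a * b ∉ center G := by
  by_contra hc
  push Not at hc
  set W := Z ⊓ ncen x with hW
  have h1 : (Z ⊓ center G).relIndex W ≤ 2 := relIndex_le_two fun a ha b hb haC hbC =>
    ⟨mul_mem ha.1 hb.1, hc a b ha.1 ha.2 (fun h => haC ⟨ha.1, h⟩) hb.1 hb.2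
      fun h => hbC ⟨hb.1, h⟩⟩
  have hle : Z ⊓ center G ≤ W := inf_le_inf_left Z (center_le_ncen x)
  have hm := relIndex_mul_relIndex (Z ⊓ center G) W Z hle inf_le_left
  have h4 := B.h4
  have e : ∀ z ∈ Z, x * z * x⁻¹ * z⁻¹ ∈ Z ∧ x * z * x⁻¹ * z⁻¹ ∈ ncen x := by
    intro z hz
    have hZ' : x * z * x⁻¹ * z⁻¹ ∈ Z := mul_mem (x_conj_Z B hxS hx hz) (inv_mem hz)
    refine ⟨hZ', ncen_symm (mem_ncen.mpr ?_)⟩
    rw [conj_comm hx2, B.inv_eq hZ', B.cfg.sqZ _ hZ']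
    exact one_mem _
  have h2 : W.relIndex Z ≤ 2 := relIndex_le_two fun a ha b hb haW hbW => by
    refine ⟨mul_mem ha hb, ncen_symm (mem_ncen.mpr ?_)⟩
    have ha' : x * a * x⁻¹ * a⁻¹ ∉ center G := fun h => haW ⟨ha, ncen_symm (mem_ncen.mpr h)⟩
    have hb' : x * b * x⁻¹ * b⁻¹ ∉ center G := fun h => hbW ⟨hb, ncen_symm (mem_ncen.mpr h)⟩
    have := hc _ _ (e a ha).1 (e a ha).2 ha' (e b hb).1 (e b hb).2 hb'
    rw [show x * (a * b) * x⁻¹ * (a * b)⁻¹
      = x * a * x⁻¹ * ((x * b * x⁻¹ * b⁻¹) * a⁻¹) by group,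
      ← B.cfg.cenU _ (inv_mem (B.hZU ha)) _ (e b hb).1, ← mul_assoc]
    exact this
  by_cases hz : ∃ z ∈ Z, z ∉ ncen x
  · obtain ⟨z, hz, hzx⟩ := hz
    refine hF (le_antisymm ?_ h4) z hz hzx
    rw [← hm]
    exact Nat.mul_le_mul h1 h2
  · push Not at hz
    rw [show W = Z from le_antisymm inf_le_left (le_inf le_rfl hz)] at h1
    omega

end X

/-- The fixed elements of the centraliser modulo the centre of a bad element lie in `H₀`, when the
intersection with `S` is a Sylow 2-subgroup. -/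
theorem key_syl
    (hF : ∀ x ∈ S, σ x = x → x * x ∈ center G → (Z ⊓ center G).relIndex Z = 4 →
      ∀ z ∈ Z, z ∉ ncen x → False)
    {x l : G} (hxS : x ∈ S) (hx : σ x = x) (hx2 : x * x ∈ center G)
    (hxZ : ∀ z ∈ Z, z⁻¹ * x ∉ center G) (hsyl : IsSylTwo (ncen x) (S ⊓ ncen x))
    (hl : l ∈ ncen x) (hσl : σ l = l) : l ∈ H₀ := by
  classical
  have hxC : x ∉ center G := by simpa using hxZ 1 (one_mem Z)
  have hHi : Inv σ (ncen x) := inv_ncen hx
  have hHne : ncen x ≠ ⊤ := B.ncen_ne_top hxC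
  have hxN := B.cfg.S_le_normU hxS
  set τ : MulAut U := U.normalizerMonoidHom ⟨x, hxN⟩ with hτ
  have hτv : ∀ u : U, (τ u : G) = x * u * x⁻¹ := fun u => rfl
  have hτact : τ ∈ act σ U := mem_act.mpr ⟨x, hx, hxN, hτv⟩
  by_contra hlM
  -- `x` is not trivial on `U` modulo `Z`
  obtain ⟨v, hvU, hvx⟩ : ∃ v ∈ U, x * v * x⁻¹ * v⁻¹ ∉ Z := by
    by_contra hc
    push Not at hc
    have h1 := B.eq_one_of_trivial_mod hτact fun u => mem_subgroupOf.mpr (hc u u.2)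
    refine hlM (B.top.max _ hHi hHne (fun u hu => mem_ncen.mpr ?_) hl)
    have h2 := hτv ⟨u, hu⟩
    rw [h1] at h2
    have h3 : x * u = u * x := by
      calc x * u = x * u * x⁻¹ * x := by group
        _ = u * x := by rw [show x * u * x⁻¹ = u from h2.symm]
    rw [show u * x * u⁻¹ * x⁻¹ = (x * u) * u⁻¹ * x⁻¹ by rw [h3]]
    simp [one_mem]
  -- the moved part of the centraliser
  obtain ⟨a, b, haZ, haH, haC, hbZ, hbH, hbC, habC⟩ :=
    exists_pair B hxS hx hx2 (fun h => hF x hxS hx hx2 h)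
  set D := disp σ (ncen x) with hD
  have hDH : D ≤ ncen x := H85.Shult.disp_le hHi
  have hDi : Inv σ D := H85.Shult.inv_disp hHi
  have hDn : ∀ h ∈ ncen x, ∀ y ∈ D, h * y * h⁻¹ ∈ D := fun h hh y hy =>
    (mem_normalizer_iff.mp (H85.Shult.le_normalizer_disp hh) y).mp hy
  set P := S ⊓ D with hP
  have hSH : SInv σ (S ⊓ ncen x) := SInv.inf B.invS hHi
  have hPsyl : IsSylTwo D P := by
    have h := syl_inf B.cfg.hr B.cfg.hσ B.cfg.hcop hsyl hSH hDi hDH hDn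
    rwa [inf_assoc, inf_eq_right.mpr hDH] at h
  have hPi : Inv σ P := SInv.inf B.invS hDi
  obtain ⟨K₁, hK₁le, hK₁p, -, hK₁n, hK₁pow⟩ := B.cfg.small _ hHi hHne
  have hodd : ∀ y ∈ K₁, Odd (orderOf y) := by
    intro y hy
    haveI : Fact p.Prime := ⟨B.cfg.hp⟩
    obtain ⟨i, hi⟩ := hK₁p ⟨y, hy⟩
    have hi' : y ^ p ^ i = 1 := congrArg Subtype.val hi
    exact ((B.cfg.hp.odd_of_ne_two B.cfg.hp2).pow).of_dvd_nat (orderOf_dvd_of_pow_eq_one hi')
  have hcen : ∀ e ∈ Z, e ∉ center G → ∀ y : G, Commute y e → y ∈ H₀ := fun e he hec y hy =>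
    B.ncen_le he hec (mem_ncen.mpr (by rw [hy.eq]; simp [one_mem]))
  have hK₁M : K₁ ≤ H₀ := H66.le_of_centralizers_fourGroup hodd (B.cfg.sqZ a haZ) (B.cfg.sqZ b hbZ)
    (B.cfg.cenU a (B.hZU haZ) b hbZ)
    (fun y hy => (mem_normalizer_iff.mp (hK₁n haH) y).mp hy)
    (fun y hy => (mem_normalizer_iff.mp (hK₁n hbH) y).mp hy)
    (fun y _ => hcen a haZ haC y) (fun y _ => hcen b hbZ hbC y)
    (fun y _ => hcen _ (mul_mem haZ hbZ) habC y)
  have hDM : D ≤ H₀ := fun d hd => by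
    obtain ⟨k, hk, s, hs, rfl⟩ :=
      H10.Shult.Rank.exists_decomp (hDH.trans hK₁n) hPsyl hK₁pow hd
    exact mul_mem (hK₁M hk) (B.hSM hs.1)
  obtain ⟨K, hK⟩ := B.exists_core
  have hPU : P ≤ U := fun y hy => by
    refine B.KS hK (hK.disp_le ?_) hy.1
    have h := H85.Shult.disp_mono (σ := σ) hDM
    rw [hD, H10.Shult.Rank.disp_disp B.cfg.hr B.cfg.hσ B.cfg.hcop hHi] at h
    exact h hy.2
  -- noncentral elements of `Z` in the moved part finish
  by_cases hcase : ∃ c ∈ P, c ∈ Z ∧ c ∉ center G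
  · obtain ⟨c, hc, hcZ, hcC⟩ := hcase
    exact hlM (B.mem_of_conjZ hσl hcZ hcC (hDM (hDn l hl c hc.2)))
  push Not at hcase
  -- the fixed space of `x` on `U / Z` is `P Z`
  have hPx : ∀ w ∈ P, x * w * x⁻¹ * w⁻¹ ∈ Z := fun w hw =>
    mem_Z_center B (mul_mem (x_conj_U B hxS hx (hPU hw)) (inv_mem (hPU hw)))
      (mem_ncen.mp (ncen_symm (hDH hw.2)))
  have hmovx : ∀ u ∈ U, x * u * x⁻¹ * u⁻¹ ∈ Z → ∀ a' ∈ U, ∀ z ∈ Z, u = a'⁻¹ * σ a' * z →
      x * a' * x⁻¹ * a'⁻¹ ∈ Z := by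
    intro u hu hux a' ha' z hz he
    set w := a'⁻¹ * σ a' with hw
    have hwU : w ∈ U := mul_mem (inv_mem ha') (B.cfg.invU a' ha')
    have hd : x * a' * x⁻¹ ∈ U := x_conj_U B hxS hx ha'
    have hwx : x * w * x⁻¹ * w⁻¹ ∈ Z := by
      have e : x * w * x⁻¹ * w⁻¹
          = (x * u * x⁻¹ * u⁻¹) * (u * (x * z⁻¹ * x⁻¹) * u⁻¹) * (u * w⁻¹) := by
        rw [he]; group
      rw [e]
      refine mul_mem (mul_mem hux ?_) ?_
      · rw [B.cfg.cenU u hu _ (x_conj_Z B hxS hx (inv_mem hz)), mul_inv_cancel_right]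
        exact x_conj_Z B hxS hx (inv_mem hz)
      · rw [he, B.cfg.cenU w hwU z hz, mul_inv_cancel_right]
        exact hz
    -- the moved part of `e := a'⁻¹ x a' x⁻¹` lies in `Z`
    obtain ⟨e, he'⟩ : ∃ e, e = a'⁻¹ * (x * a' * x⁻¹) := ⟨_, rfl⟩
    have heU : e ∈ U := he' ▸ mul_mem (inv_mem ha') hd
    have hdm : (x * a' * x⁻¹)⁻¹ * σ (x * a' * x⁻¹) = x * w * x⁻¹ := by
      rw [hw, map_mul, map_mul, map_inv, hx]; group
    have h1 := mov_mul B ha' heU
    rw [show a' * e = x * a' * x⁻¹ by rw [he']; group, hdm, ← hw] at h1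
    have h2 : e⁻¹ * σ e ∈ Z := by
      obtain ⟨f, hf⟩ : ∃ f, f = e⁻¹ * σ e := ⟨_, rfl⟩
      have hfU : f ∈ U := hf ▸ mul_mem (inv_mem heU) (B.cfg.invU e heU)
      rw [← hf] at h1 ⊢
      rw [show x * w * x⁻¹ * (w * f)⁻¹ = (x * w * x⁻¹ * w⁻¹) * (w * f⁻¹ * w⁻¹) by group] at h1
      have h3 := mul_mem (inv_mem hwx) h1
      rw [inv_mul_cancel_left] at h3
      have h4 : w⁻¹ * (w * f⁻¹ * w⁻¹) * w ∈ Z := by
        rwa [mul_assoc, ← B.cfg.cenU w hwU _ h3, inv_mul_cancel_left]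
      rw [show w⁻¹ * (w * f⁻¹ * w⁻¹) * w = f⁻¹ by group] at h4
      simpa using inv_mem h4
    have heZ : e ∈ Z := by
      by_contra hne
      exact (B.mov_notMem heU hne).2 h2
    rw [show x * a' * x⁻¹ * a'⁻¹ = a' * e * a'⁻¹ by rw [he']; group,
      B.cfg.cenU a' ha' e heZ, mul_inv_cancel_right]
    exact heZ
  have hUx : ∀ u ∈ U, x * u * x⁻¹ * u⁻¹ ∈ Z → ∃ w ∈ P, ∃ z ∈ Z, u = w * z := by
    intro u hu hux
    obtain ⟨a', ha', z, hz, he⟩ := B.exists_mov hu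
    have hax := hmovx u hu hux a' ha' z hz he
    obtain ⟨b', hb', z', hz', he'⟩ := B.exists_mov ha'
    have hbx := hmovx a' ha' hax b' hb' z' hz' he'
    have hcx := B.comm_mov hx hb' hbx
    set c := b'⁻¹ * σ b' with hc
    have hcU : c ∈ U := mul_mem (inv_mem hb') (B.cfg.invU b' hb')
    have hcH : c ∈ ncen x := mem_ncen.mpr (by rw [← hcx]; simp [one_mem])
    have he2 : a'⁻¹ * σ a' = c⁻¹ * σ c := by
      rw [he', map_mul, B.fixZ hz', mul_inv_rev,
        show z'⁻¹ * c⁻¹ * (σ c * z') = z'⁻¹ * (c⁻¹ * σ c) * z' by group, mul_assoc,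
        B.cfg.cenU _ (mul_mem (inv_mem hcU) (B.cfg.invU c hcU)) z' hz', inv_mul_cancel_left]
    refine ⟨c⁻¹ * σ c, ⟨B.hUS (mul_mem (inv_mem hcU) (B.cfg.invU c hcU)), ?_⟩, z, hz, he2 ▸ he⟩
    have h := inv_mem (H85.Shult.subset_disp (σ := σ) (inv_mem hcH))
    rwa [map_inv, inv_inv, mul_inv_rev, inv_inv] at h
  have hP0 : ∃ w ∈ P, w ∉ Z := by
    obtain ⟨w, hw⟩ : ∃ w, w = x * v * x⁻¹ * v⁻¹ := ⟨_, rfl⟩
    have hwU : w ∈ U := hw ▸ mul_mem (x_conj_U B hxS hx hvU) (inv_mem hvU)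
    have h : x * w * x⁻¹ * w⁻¹ ∈ Z := by
      rw [hw, conj_comm hx2, ← hw, ← mul_inv_rev]
      exact inv_mem (B.cfg.sqU w hwU)
    obtain ⟨q, hq, z, hz, he⟩ := hUx w hwU h
    exact ⟨q, hq, fun hqZ => hvx (hw ▸ he ▸ mul_mem hqZ hz)⟩
  have hmovP : ∀ w ∈ P, ∃ c ∈ P, ∃ z ∈ P, z ∈ center G ∧ w = c⁻¹ * σ c * z := by
    intro w hw
    obtain ⟨a', ha', z, hz, he⟩ := B.exists_mov (hPU hw)
    obtain ⟨c, hc, z', hz', rfl⟩ := hUx a' ha' (hmovx w (hPU hw) (hPx w hw) a' ha' z hz he)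
    have he2 : (c * z')⁻¹ * σ (c * z') = c⁻¹ * σ c := by
      rw [map_mul, B.fixZ hz', mul_inv_rev,
        show z'⁻¹ * c⁻¹ * (σ c * z') = z'⁻¹ * ((c⁻¹ * σ c) * z') by group,
        B.cfg.cenU _ (mul_mem (inv_mem (hPU hc)) (B.cfg.invU c (hPU hc))) z' hz',
        inv_mul_cancel_left]
    rw [he2] at he
    have hzP : z ∈ P := by
      have := mul_mem (inv_mem (mul_mem (inv_mem hc) (hPi c hc))) hw
      rwa [he, inv_mul_cancel_left] at this
    exact ⟨c, hc, z, hzP, hcase z hzP hz, he⟩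
  -- a fixed element of the coset of `l` normalising `P`
  obtain ⟨k, hkD, hσk, hkc⟩ := H10.Shult.Rank.exists_fixed_conj_le B.cfg.hr B.cfg.hσ B.cfg.hcop
    hDi hPi hPsyl (H10.Shult.Rank.inv_cj hσl hPi)
    (H10.Shult.Rank.cj_le fun y hy => hDn l hl y hy.2) ((hPsyl.2.1).map _)
  obtain ⟨g, hg⟩ : ∃ g, g = k * l := ⟨_, rfl⟩
  have hσg : σ g = g := by rw [hg, map_mul, hσk, hσl]
  have hgH : g ∈ ncen x := hg ▸ mul_mem (hDH hkD) hl
  have hgM : g ∉ H₀ := fun h => hlM (by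
    have := mul_mem (inv_mem (hDM hkD)) h
    rwa [hg, inv_mul_cancel_left] at this)
  have hgP : ∀ y ∈ P, g * y * g⁻¹ ∈ P := fun y hy => by
    rw [hg, show k * l * y * (k * l)⁻¹ = k * (l * y * l⁻¹) * k⁻¹ by group]
    exact hkc (H10.Shult.Rank.conj_mem_cj (H10.Shult.Rank.conj_mem_cj hy))
  have hgN : g ∈ normalizer (P : Set G) := H10.Shult.Rank.mem_normalizer_of_conj hgP
  -- the form on `P`
  set σP := restrict (show SInv σ P from hPi) with hσP
  have hfdP : FormData (Z.subgroupOf P) σP r m :=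
    { hr := B.cfg.hr
      hrm := B.cfg.hrm
      m_pos := B.cfg.m_pos
      hσ := MulEquiv.ext fun u => Subtype.ext (by rw [hσP, restrict_pow, B.cfg.hσ]; rfl)
      sqZ := fun z hz => Subtype.ext (B.cfg.sqZ _ hz)
      cen := fun z hz u => Subtype.ext (B.cfg.cenU _ (hPU u.2) _ hz)
      sq := fun u => B.cfg.sqU _ (hPU u.2)
      comm := fun u w => B.cfg.comU _ (hPU u.2) _ (hPU w.2)
      fix := fun u => Subtype.ext_iff.trans
        ⟨fun h => B.cfg.mem_Z (hPU u.2) h, fun h => B.cfg.fixZ h⟩ }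
  have hcP : ∀ z : Z.subgroupOf P, ((z : P) : G) ∈ center G := fun z => hcase _ (z : P).2 z.2
  let εP : (Z.subgroupOf P) →* ℤˣ :=
    { toFun := fun z => if z = 1 then 1 else -1
      map_one' := by simp
      map_mul' := fun y z => by
        by_cases hy : y = 1 <;> by_cases hz : z = 1 <;> simp [hy, hz]
        have e : y = z := Subtype.ext (Subtype.ext (B.two_center y.2 (hcP y) z.2 (hcP z)
          (fun h => hy (Subtype.ext (Subtype.ext h))) fun h => hz (Subtype.ext (Subtype.ext h))))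
        have h2 : y * z = 1 := by rw [e]; exact Subtype.ext (hfdP.sqZ _ z.2)
        simp [h2] }
  have hεP : ∀ z, εP z = 1 ↔ z = 1 := fun z => by
    show (if z = 1 then (1 : ℤˣ) else -1) = 1 ↔ _
    split <;> simp_all
  -- a block of `U` not containing `P` in its radical
  obtain ⟨w₀, hw₀P, hw₀Z⟩ := hP0
  obtain ⟨ε, hεo, hεb, hεw⟩ := B.exists_oblk (u := ⟨w₀, hPU hw₀P⟩) hw₀Z
  haveI := B.fd.rad_normal ε
  have hPU' : ∀ u : U, u ∈ P.subgroupOf U → restrict (show SInv σ U from B.cfg.invU) u ∈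
      P.subgroupOf U := fun u hu => hPi (u : G) hu
  have hspan : P.subgroupOf U ⊔ B.fd.rad ε = ⊤ := by
    refine (hεb.2 _ (fun u hu => ?_) le_sup_right).resolve_left fun h => hεw (h.le (mem_sup_left ?_))
    · obtain ⟨y, hy, z, hz, rfl⟩ := mem_sup_of_normal_right.mp hu
      rw [map_mul]
      exact mul_mem (mem_sup_left (hPU' y hy)) (mem_sup_right (B.fd.sigma_rad hz))
    · exact mem_subgroupOf.mpr hw₀P
  have hcomm1 : ∀ y ∈ P, ∀ z ∈ P, (∀ u : U, (u : G) = y → u ∈ B.fd.rad ε) →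
      y * z * y⁻¹ * z⁻¹ = 1 := by
    intro y hy z hz hu
    have h1 := hu ⟨y, hPU hy⟩ rfl ⟨z, hPU hz⟩
    by_contra hne
    refine hεo _ ?_ (fun h => hne ?_) h1
    · exact hcP (hfdP.cm ⟨y, hy⟩ ⟨z, hz⟩)
    · exact congrArg Subtype.val (congrArg Subtype.val h)
  have hcap : ∀ y ∈ P, (∀ z ∈ P, y * z * y⁻¹ * z⁻¹ = 1) → y ∈ Z := by
    intro y hy hyc
    by_contra hyZ
    obtain ⟨η, hηo, hηb, hηy⟩ := B.exists_oblk (u := ⟨y, hPU hy⟩) hyZ
    haveI := B.fd.rad_normal η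
    have htop : P.subgroupOf U ⊔ B.fd.rad η = ⊤ := by
      refine (hηb.2 _ (fun u hu => ?_) le_sup_right).resolve_left fun h =>
        hηy (h.le (mem_sup_left (mem_subgroupOf.mpr hy)))
      obtain ⟨s, hs, z, hz, rfl⟩ := mem_sup_of_normal_right.mp hu
      rw [map_mul]
      exact mul_mem (mem_sup_left (hPU' s hs)) (mem_sup_right (B.fd.sigma_rad hz))
    refine hηy fun u => ?_
    obtain ⟨s, hs, z, hz, rfl⟩ := mem_sup_of_normal_right.mp (htop.ge (mem_top u))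
    rw [B.fd.cm_mul_right, map_mul,
      show B.fd.cm ⟨y, hPU hy⟩ s = 1 from Subtype.ext (Subtype.ext (hyc s hs)), map_one, one_mul,
      B.fd.cm_comm]
    exact hz _
  have hrad : hfdP.rad εP = Z.subgroupOf P := by
    refine le_antisymm (fun (y : P) hy => hcap y y.2 fun z hz => ?_) (hfdP.le_rad εP)
    exact congrArg Subtype.val (congrArg Subtype.val ((hεP _).mp (hy ⟨z, hz⟩)))
  have hker : ∀ y ∈ P, (∀ u : U, (u : G) = y → u ∈ B.fd.rad ε) → y ∈ Z := fun y hy hu =>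
    hcap y hy fun z hz => hcomm1 y hy z hz hu
  have hblk : hfdP.Blk εP := by
    rw [FormData.Blk, hrad]
    refine ⟨?_, fun H hH hle => ?_⟩
    · let f : P →* U ⧸ B.fd.rad ε := (QuotientGroup.mk' _).comp (inclusion hPU)
      have hfk : f.ker = Z.subgroupOf P := by
        ext y
        rw [MonoidHom.mem_ker, MonoidHom.comp_apply, QuotientGroup.mk'_apply,
          QuotientGroup.eq_one_iff, mem_subgroupOf]
        exact ⟨fun h => hker y y.2 fun u hu => (Subtype.ext hu : u = inclusion hPU y) ▸ h,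
          fun h => B.fd.le_rad ε (mem_subgroupOf.mpr h)⟩
      have hfs : Function.Surjective f := fun q => by
        obtain ⟨u, rfl⟩ := QuotientGroup.mk_surjective q
        obtain ⟨s, hs, z, hz, rfl⟩ := mem_sup_of_normal_right.mp (hspan.ge (mem_top u))
        refine ⟨⟨(s : G), hs⟩, ?_⟩
        show QuotientGroup.mk (inclusion hPU ⟨(s : G), hs⟩) = _
        rw [QuotientGroup.mk_mul, (QuotientGroup.eq_one_iff z).mpr hz, mul_one]
        rfl
      rw [← hfk, index_ker, MonoidHom.range_eq_top.mpr hfs, card_top, ← hεb.1, index_eq_card]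
    · set H' := H.map (inclusion hPU) with hH'
      have hinv : ∀ u ∈ H' ⊔ B.fd.rad ε, restrict (show SInv σ U from B.cfg.invU) u ∈
          H' ⊔ B.fd.rad ε := by
        intro u hu
        obtain ⟨s, hs, z, hz, rfl⟩ := mem_sup_of_normal_right.mp hu
        obtain ⟨s', hs', rfl⟩ := hs
        rw [map_mul]
        exact mul_mem (mem_sup_left ⟨σP s', hH s' hs', rfl⟩) (mem_sup_right (B.fd.sigma_rad hz))
      rcases hεb.2 _ hinv le_sup_right with h | h
      · left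
        refine le_antisymm (fun (y : P) hy => hker y y.2 fun u hu => ?_) hle
        exact h.le (mem_sup_left ⟨y, hy, (Subtype.ext hu).symm⟩)
      · right
        refine eq_top_iff.mpr fun y _ => ?_
        obtain ⟨s, ⟨s', hs', rfl⟩, z, hz, he⟩ :=
          mem_sup_of_normal_right.mp (h.ge (mem_top (inclusion hPU y)))
        have hzG : (z : G) = (s' : G)⁻¹ * y := by
          have h' : (s' : G) * z = y := congrArg Subtype.val he
          rw [← h', inv_mul_cancel_left]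
        have hzZ : (z : G) ∈ Z := hker _ (hzG ▸ mul_mem (inv_mem s'.2) y.2)
          fun u hu => (Subtype.ext hu : u = z) ▸ hz
        have : s'⁻¹ * y ∈ H := hle (mem_subgroupOf.mpr (by simpa [hzG] using hzZ))
        simpa using mul_mem hs' this
  -- the fixed element centralises `P`
  have hgC : ∀ y ∈ P, g * y = y * g := by
    set φ : MulAut P := P.normalizerMonoidHom ⟨g, hgN⟩ with hφ
    have hφv : ∀ y : P, (φ y : G) = g * y * g⁻¹ := fun y => rfl
    have hstab := hfdP.stab hblk φ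
      (fun y => Subtype.ext (by
        show g * σ (y : G) * g⁻¹ = σ (g * y * g⁻¹)
        rw [map_mul, map_mul, map_inv, hσg]))
      (by
        refine B.cfg.hr.coprime_iff_not_dvd.mpr fun hd => B.cfg.hcop ?_
        refine (hd.trans ?_).trans (card_subgroup_dvd_card (normalizer (P : Set G)))
        exact (orderOf_map_dvd _ _).trans (orderOf_dvd_natCard _))
      (fun y z => by
        congr 1
        refine Subtype.ext (Subtype.ext ?_)
        show g * y * g⁻¹ * (g * z * g⁻¹) * (g * y * g⁻¹)⁻¹ * (g * z * g⁻¹)⁻¹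
          = (y : G) * z * (y : G)⁻¹ * (z : G)⁻¹
        rw [show g * y * g⁻¹ * (g * z * g⁻¹) * (g * y * g⁻¹)⁻¹ * (g * z * g⁻¹)⁻¹
          = g * ((y : G) * z * (y : G)⁻¹ * (z : G)⁻¹) * g⁻¹ by group,
          mem_center_iff.mp (show (y : G) * z * (y : G)⁻¹ * (z : G)⁻¹ ∈ center G from
            hcP (hfdP.cm y z)) g, mul_inv_cancel_right])
    intro y hy
    obtain ⟨c, hc, z, -, hz, rfl⟩ := hmovP y hy
    obtain ⟨d, hd⟩ : ∃ d, d = g * c * g⁻¹ * c⁻¹ := ⟨_, rfl⟩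
    have hdC : d ∈ center G := by
      have := hstab ⟨c, hc⟩
      rw [hrad] at this
      exact hd ▸ hcP ⟨_, this⟩
    have hgc : g * c = d * c * g := by rw [hd]; group
    have hgσ : g * σ c = d * σ c * g := by
      have := congrArg σ hgc
      rwa [map_mul, map_mul, map_mul, hσg, B.cfg.center_fix d hdC] at this
    calc g * (c⁻¹ * σ c * z)
        = c⁻¹ * d⁻¹ * ((d * c * g) * c⁻¹) * σ c * z := by group
      _ = c⁻¹ * d⁻¹ * ((g * c) * c⁻¹) * σ c * z := by rw [hgc]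
      _ = c⁻¹ * d⁻¹ * (g * σ c) * z := by group
      _ = c⁻¹ * σ c * (g * z) := by rw [hgσ]; group
      _ = c⁻¹ * σ c * z * g := by rw [mem_center_iff.mp hz g, ← mul_assoc]
  -- fusion inside `L`
  set L := ncen x ⊓ centralizer (P : Set G) with hL
  have hLZ : ∀ z ∈ Z, z ∈ ncen x → z ∈ L := fun z hz hzx => ⟨hzx, mem_centralizer_iff.mpr
    fun y hy => B.cfg.cenU y (hPU hy) z hz⟩
  have hgL : g ∈ L := ⟨hgH, mem_centralizer_iff.mpr fun y hy => (hgC y hy).symm⟩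
  let Q : MulAut U → Prop := fun φ => φ ∈ act σ U ∧ (∀ u, φ (τ u) = τ (φ u)) ∧
    ∀ u : U, (u : G) ∈ P → φ u = u
  have hQsq : ∀ φ, Q φ → φ * φ = 1 := by
    rintro φ ⟨hφ, hcomm, hfixP⟩
    refine B.eq_one_of_trivial_mod (mul_mem hφ hφ) fun u => ?_
    show φ (φ u) * u⁻¹ ∈ Z.subgroupOf U
    have hcommZ : ∀ s t : U, s * t * s⁻¹ * t⁻¹ ∈ Z.subgroupOf U := fun s t => B.fd.comm s t
    have hcenZ : ∀ z ∈ Z.subgroupOf U, ∀ s : U, s * z = z * s := B.fd.cen
    obtain ⟨s, hs⟩ : ∃ s, s = τ u * u⁻¹ := ⟨_, rfl⟩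
    have hsx : x * (s : G) * x⁻¹ * (s : G)⁻¹ ∈ Z := by
      rw [hs]
      show x * (x * u * x⁻¹ * (u : G)⁻¹) * x⁻¹ * (x * u * x⁻¹ * (u : G)⁻¹)⁻¹ ∈ Z
      rw [conj_comm hx2, ← mul_inv_rev]
      exact inv_mem (B.cfg.sqU _ (mul_mem (x_conj_U B hxS hx u.2) (inv_mem u.2)))
    obtain ⟨q, hq, z, hz, he⟩ := hUx s s.2 hsx
    have hsqz : s = (⟨q, hPU hq⟩ : U) * (⟨z, B.hZU hz⟩ : U) := Subtype.ext he
    obtain ⟨Q', hQ'⟩ : ∃ t : U, t = ⟨q, hPU hq⟩ := ⟨_, rfl⟩
    obtain ⟨Z', hZ'⟩ : ∃ t : U, t = ⟨z, B.hZU hz⟩ := ⟨_, rfl⟩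
    have hZ'm : Z' ∈ Z.subgroupOf U := hZ' ▸ hz
    rw [← hQ', ← hZ'] at hsqz
    have hτu : τ u = Q' * Z' * u := by rw [← hsqz, hs]; group
    obtain ⟨w, hw⟩ : ∃ w, w = φ u * u⁻¹ := ⟨_, rfl⟩
    have hwx : τ w * w⁻¹ ∈ Z.subgroupOf U := by
      have e : τ w = Q' * (φ Z' * w * Z'⁻¹) * Q'⁻¹ := by
        rw [hw, map_mul, map_inv, ← hcomm, hτu, map_mul, map_mul,
          hfixP Q' (by rw [hQ']; exact hq)]
        group
      rw [e, hcenZ _ (inv_mem hZ'm) (φ Z' * w), ← mul_assoc Z'⁻¹,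
        show Q' * (Z'⁻¹ * φ Z' * w) * Q'⁻¹ * w⁻¹
          = (Q' * (Z'⁻¹ * φ Z') * Q'⁻¹) * (Q' * w * Q'⁻¹ * w⁻¹) by group]
      refine mul_mem ?_ (hcommZ _ _)
      rw [hcenZ _ (mul_mem (inv_mem hZ'm) (B.act_Z hφ hZ'm)), mul_inv_cancel_right]
      exact mul_mem (inv_mem hZ'm) (B.act_Z hφ hZ'm)
    obtain ⟨q₁, hq₁, z₁, hz₁, he₁⟩ := hUx w w.2 (by
      have := mem_subgroupOf.mp hwx
      simpa [hτv] using this)
    obtain ⟨Q₁, hQ₁⟩ : ∃ t : U, t = ⟨q₁, hPU hq₁⟩ := ⟨_, rfl⟩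
    obtain ⟨Z₁, hZ₁⟩ : ∃ t : U, t = ⟨z₁, B.hZU hz₁⟩ := ⟨_, rfl⟩
    have hZ₁m : Z₁ ∈ Z.subgroupOf U := hZ₁ ▸ hz₁
    have hw1 : w = Q₁ * Z₁ := Subtype.ext (by rw [hQ₁, hZ₁]; exact he₁)
    have hφu : φ u = Q₁ * Z₁ * u := by rw [← hw1, hw]; group
    rw [hφu, map_mul, map_mul, hfixP Q₁ (by rw [hQ₁]; exact hq₁), hφu,
      show Q₁ * φ Z₁ * (Q₁ * Z₁ * u) * u⁻¹ = Q₁ * φ Z₁ * Q₁ * Z₁ by group,
      mul_assoc Q₁ (φ Z₁) Q₁, ← hcenZ _ (B.act_Z hφ hZ₁m) Q₁, ← mul_assoc]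
    exact mul_mem (mul_mem (B.fd.sq Q₁) (B.act_Z hφ hZ₁m)) hZ₁m
  have hQmul : ∀ φ ψ, Q φ → Q ψ → Q (φ * ψ) := fun φ ψ h h' =>
    ⟨mul_mem h.1 h'.1, fun u => by
      rw [MulAut.mul_apply, MulAut.mul_apply, h'.2.1, h.2.1],
      fun u hu => by rw [MulAut.mul_apply, h'.2.2 u hu, h.2.2 u hu]⟩
  have hQcomm : ∀ φ ψ, Q φ → Q ψ → φ * ψ = ψ * φ := fun φ ψ h h' => by
    calc φ * ψ = φ * ((φ * ψ) * (φ * ψ)) * ψ := by rw [hQsq _ (hQmul φ ψ h h'), mul_one]
      _ = (φ * φ) * (ψ * φ) * (ψ * ψ) := by group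
      _ = ψ * φ := by rw [hQsq _ h, hQsq _ h', one_mul, mul_one]
  have hcongr : ∀ φ ∈ act σ U, ∀ s t : U, (s : G) * (t : G)⁻¹ ∈ center G →
      (φ s : G) * (φ t : G)⁻¹ ∈ center G := by
    intro φ hφ s t h
    obtain ⟨n, -, -, he⟩ := mem_act.mp hφ
    rw [he, he, show n * s * n⁻¹ * (n * t * n⁻¹)⁻¹ = n * ((s : G) * (t : G)⁻¹) * n⁻¹ by group]
    exact (inferInstance : (center G).Normal).conj_mem _ h n
  have hfus : ∀ s ∈ Z, s ∈ ncen x → s ∉ center G → ∀ t ∈ Z, t ∈ ncen x → t ∉ center G →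
      ∃ φ, Q φ ∧ ∀ hs : s ∈ U, (φ ⟨s, hs⟩ : G) * t⁻¹ ∈ center G := by
    intro s hs hsx hsC t ht htx htC
    obtain ⟨n, hnL, hnM, hσn, -, hn⟩ := B.exists_fuse L hgL hσg hgM hs (hLZ s hs hsx) hsC
      ht (hLZ t ht htx) htC
    obtain ⟨n', hσn', hn'N, hn'K, hn'y⟩ := B.exists_normalising hK hnM hσn
    obtain ⟨φ, hφ⟩ : ∃ φ : MulAut U, φ = U.normalizerMonoidHom ⟨n', hn'N⟩ := ⟨_, rfl⟩
    have hφv : ∀ u : U, (φ u : G) = n' * u * n'⁻¹ := fun u => by rw [hφ]; rfl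
    have hφact : φ ∈ act σ U := mem_act.mpr ⟨n', hσn', hn'N, hφv⟩
    refine ⟨φ, ⟨hφact, fun u => Subtype.ext ?_, fun u hu => Subtype.ext ?_⟩, fun hsU => ?_⟩
    · -- the commutator of `n'` and `x` centralises `U`
      obtain ⟨κ, hκ⟩ : ∃ κ, κ = n' * n⁻¹ := ⟨_, rfl⟩
      rw [← hκ] at hn'K
      obtain ⟨d, hd⟩ : ∃ d, d = n * x * n⁻¹ * x⁻¹ := ⟨_, rfl⟩
      have hdC : d ∈ center G := hd ▸ mem_ncen.mp hnL.1
      obtain ⟨κ', hκ'⟩ : ∃ κ', κ' = κ * (x * κ⁻¹ * x⁻¹) := ⟨_, rfl⟩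
      have hκ'K : κ' ∈ K := hκ' ▸ mul_mem hn'K
        ((mem_normalizer_iff.mp (hK.norm (B.hSM hxS)) _).mp (inv_mem hn'K))
      have e : n' * x * n'⁻¹ * x⁻¹ = d * κ' := by
        calc n' * x * n'⁻¹ * x⁻¹ = κ * d * (x * κ⁻¹ * x⁻¹) := by rw [hκ, hd]; group
          _ = d * κ' := by rw [hκ', mem_center_iff.mp hdC κ, mul_assoc]
      have hκ'N : κ' ∈ normalizer (U : Set G) := by
        have h1 : n' * x * n'⁻¹ * x⁻¹ ∈ normalizer (U : Set G) :=
          mul_mem (mul_mem (mul_mem hn'N hxN) (inv_mem hn'N)) (inv_mem hxN)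
        rw [e] at h1
        have hdN : d ∈ normalizer (U : Set G) := mem_normalizer_iff.mpr fun y => by
          rw [← mem_center_iff.mp hdC y, mul_inv_cancel_right]
        simpa using mul_mem (inv_mem hdN) h1
      show ((φ (τ u) : U) : G) = (τ (φ u) : U)
      rw [hφv, hτv, hτv, hφv]
      have hy : x * (n' * u * n'⁻¹) * x⁻¹ ∈ U :=
        x_conj_U B hxS hx ((mem_normalizer_iff.mp hn'N u).mp u.2)
      calc n' * (x * u * x⁻¹) * n'⁻¹
          = (n' * x * n'⁻¹ * x⁻¹) * (x * (n' * u * n'⁻¹) * x⁻¹)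
              * (n' * x * n'⁻¹ * x⁻¹)⁻¹ := by group
        _ = d * (κ' * (x * (n' * u * n'⁻¹) * x⁻¹) * κ'⁻¹) * d⁻¹ := by rw [e]; group
        _ = d * (x * (n' * u * n'⁻¹) * x⁻¹) * d⁻¹ := by
          rw [B.K_cent hK hκ'K hκ'N hy, mul_inv_cancel_right]
        _ = x * (n' * u * n'⁻¹) * x⁻¹ := by
          rw [← mem_center_iff.mp hdC, mul_inv_cancel_right]
    · rw [hφv]
      have h1 : n * u * n⁻¹ = u := by
        rw [← mem_centralizer_iff.mp hnL.2 u hu, mul_inv_cancel_right]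
      rw [hn'y u u.2 (by rw [h1]; exact u.2), h1]
    · rw [hφv]
      obtain ⟨c, hc⟩ : ∃ c, c = n * s * n⁻¹ * t⁻¹ := ⟨_, rfl⟩
      rw [← hc] at hn
      have hns : n * s * n⁻¹ = c * t := by rw [hc]; group
      have hcS : c * t ∈ S := by
        refine mul_mem ?_ (B.hZS ht)
        have hc2 : c ^ 2 = 1 := by
          have h1 : (c * t) * (c * t) = 1 := by
            rw [← hns, show n * s * n⁻¹ * (n * s * n⁻¹) = n * (s * s) * n⁻¹ by group,
              B.cfg.sqZ s hs]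
            group
          have h2 : c * t * (c * t) = c * c * (t * t) := by
            rw [mul_assoc c t, ← mul_assoc t c t, mem_center_iff.mp hn t, mul_assoc c t t,
              ← mul_assoc]
          rwa [h2, B.cfg.sqZ t ht, mul_one, ← pow_two] at h1
        exact mem_of_central_two B hn (n := 1) (by simpa using hc2)
      have hZn := B.fixed_conj_Z hnM hσn hs (hns ▸ hcS)
      rw [hn'y s hsU (B.hZU hZn), ← hc]
      exact hn
  obtain ⟨φ, hφQ, hφa⟩ := hfus a haZ haH haC b hbZ hbH hbC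
  obtain ⟨ψ, hψQ, hψa⟩ := hfus a haZ haH haC (a * b) (mul_mem haZ hbZ) (mul_mem haH hbH) habC
  obtain ⟨A, hA⟩ : ∃ t : U, t = ⟨a, B.hZU haZ⟩ := ⟨_, rfl⟩
  obtain ⟨Bb, hB⟩ : ∃ t : U, t = ⟨b, B.hZU hbZ⟩ := ⟨_, rfl⟩
  have hAv : (A : G) = a := by rw [hA]
  have hBv : (Bb : G) = b := by rw [hB]
  have h1 : (φ A : G) * (Bb : G)⁻¹ ∈ center G := by rw [hBv, hA]; exact hφa _
  have h2 : (ψ A : G) * ((A * Bb : U) : G)⁻¹ ∈ center G := by
    rw [show ((A * Bb : U) : G) = a * b by rw [Subgroup.coe_mul, hAv, hBv], hA]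
    exact hψa _
  have sym : ∀ {s t : G}, s * t⁻¹ ∈ center G → t * s⁻¹ ∈ center G := fun h => by
    simpa [mul_inv_rev] using inv_mem h
  have trans : ∀ {s t u : G}, s * t⁻¹ ∈ center G → t * u⁻¹ ∈ center G → s * u⁻¹ ∈ center G :=
    fun {s t u} h h' => by simpa [mul_assoc] using mul_mem h h'
  have hφB : (φ Bb : G) * (A : G)⁻¹ ∈ center G := by
    have := hcongr φ hφQ.1 _ _ (sym h1)
    rwa [← MulAut.mul_apply, hQsq φ hφQ] at this
  have hφC : (φ (A * Bb) : G) * ((A * Bb : U) : G)⁻¹ ∈ center G := by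
    rw [map_mul, Subgroup.coe_mul, Subgroup.coe_mul,
      show (φ A : G) * (φ Bb : G) * ((A : G) * (Bb : G))⁻¹
        = (φ A : G) * ((φ Bb : G) * ((Bb : G)⁻¹ * (A : G)⁻¹)) by group]
    have e : (Bb : G)⁻¹ * (A : G)⁻¹ = (A : G)⁻¹ * (Bb : G)⁻¹ := by
      rw [← mul_inv_rev, ← mul_inv_rev, hAv, hBv, B.cfg.cenU a (B.hZU haZ) b hbZ]
    rw [e, ← mul_assoc (φ Bb : G), ← mul_assoc (φ A : G), mem_center_iff.mp hφB, mul_assoc]
    exact mul_mem hφB h1
  have h3 : (ψ Bb : G) * ((A * Bb : U) : G)⁻¹ ∈ center G := by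
    have e1 : (ψ (φ A) : G) * (ψ Bb : G)⁻¹ ∈ center G := hcongr ψ hψQ.1 _ _ h1
    rw [← MulAut.mul_apply, hQcomm ψ φ hψQ hφQ, MulAut.mul_apply] at e1
    exact trans (sym e1) (trans (hcongr φ hφQ.1 _ _ h2) hφC)
  have h4 : (ψ Bb : G) * (ψ A : G)⁻¹ ∈ center G := trans h3 (sym h2)
  have h5 := hcongr ψ hψQ.1 _ _ h4
  rw [← MulAut.mul_apply, ← MulAut.mul_apply, hQsq ψ hψQ] at h5
  change (Bb : G) * (A : G)⁻¹ ∈ center G at h5
  rw [hAv, hBv, B.inv_eq haZ, B.cfg.cenU b (B.hZU hbZ) a haZ] at h5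
  exact habC h5

omit [Finite G] B in
/-- The centraliser modulo the centre does not see central factors. -/
theorem ncen_mul_center {x c : G} (hc : c ∈ center G) : ncen (x * c) = ncen x := by
  refine Subgroup.ext fun g => ?_
  rw [mem_ncen, mem_ncen,
    show g * (x * c) * g⁻¹ * (x * c)⁻¹ = g * x * (c * g⁻¹ * c⁻¹) * x⁻¹ by group,
    ← mem_center_iff.mp hc g⁻¹, mul_inv_cancel_right]

/-- The fixed elements of the centraliser modulo the centre of a bad element lie in `H₀`. -/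
theorem key
    (hF : ∀ x ∈ S, σ x = x → x * x ∈ center G → (Z ⊓ center G).relIndex Z = 4 →
      ∀ z ∈ Z, z ∉ ncen x → False)
    {x l : G} (hxS : x ∈ S) (hx : σ x = x) (hx2 : x * x ∈ center G)
    (hxZ : ∀ z ∈ Z, z⁻¹ * x ∉ center G) (hl : l ∈ ncen x) (hσl : σ l = l) : l ∈ H₀ := by
  obtain ⟨a, -, haZ, haH, haC, -⟩ := exists_pair B hxS hx hx2 (fun h => hF x hxS hx hx2 h)
  have hHi : Inv σ (ncen x) := inv_ncen hx
  obtain ⟨P, hPi, hle, hP⟩ := exists_inv_syl_ge B.cfg.hr B.cfg.hσ B.cfg.hcop hHi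
    (SInv.inf B.invS hHi) inf_le_right (B.cfg.pS.to_le inf_le_left)
  have hPM : P ≤ H₀ := B.two_le hPi hP.2.1 (hle ⟨B.hZS haZ, haH⟩) haZ haC
  obtain ⟨c, hcM, hσc, hc⟩ := B.conj_into_S hPi hPM hP.2.1
  have hxP : x ∈ P := hle ⟨hxS, self_mem_ncen x⟩
  have hy2 : c * x * c⁻¹ * (c * x * c⁻¹) ∈ center G := by
    rw [show c * x * c⁻¹ * (c * x * c⁻¹) = c * (x * x) * c⁻¹ by group]
    exact (inferInstance : (center G).Normal).conj_mem _ hx2 c
  have hyZ : ∀ z ∈ Z, z⁻¹ * (c * x * c⁻¹) ∉ center G := by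
    intro z hz hzc
    obtain ⟨d, hd⟩ : ∃ d, d = z⁻¹ * (c * x * c⁻¹) := ⟨_, rfl⟩
    rw [← hd] at hzc
    have hdS : d ∈ S := hd ▸ mul_mem (inv_mem (B.hZS hz)) (hc x hxP)
    have he : c⁻¹ * z * c⁻¹⁻¹ = x * d⁻¹ := by
      have h1 : c * x * c⁻¹ = z * d := by rw [hd]; group
      calc c⁻¹ * z * c⁻¹⁻¹ = c⁻¹ * (z * d) * (d⁻¹ * c) := by group
        _ = c⁻¹ * (c * x * c⁻¹) * (c * d⁻¹) := by
          rw [h1, mem_center_iff.mp (inv_mem hzc) c]
        _ = x * d⁻¹ := by group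
    have h2 := B.fixed_conj_Z (inv_mem hcM) (by rw [map_inv, hσc]) hz
      (he ▸ mul_mem hxS (inv_mem hdS))
    refine hxZ _ h2 ?_
    rw [he, show (x * d⁻¹)⁻¹ * x = d by group]
    exact hzc
  have hsyl : IsSylTwo (ncen (c * x * c⁻¹)) (S ⊓ ncen (c * x * c⁻¹)) := by
    refine ⟨inf_le_right, B.cfg.pS.to_le inf_le_left, fun T hT hT2 => ?_⟩
    obtain ⟨h, hh, hhc⟩ := hP.2.2 (T.map (MulAut.conj c⁻¹).toMonoidHom) (by
      rintro _ ⟨t, ht, rfl⟩
      have := conj_mem_ncen (c := c⁻¹) (hT ht)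
      rw [show c⁻¹ * (c * x * c⁻¹) * c⁻¹⁻¹ = x by group] at this
      exact this) (hT2.map _)
    refine ⟨c * h * c⁻¹, conj_mem_ncen hh, fun t ht => ?_⟩
    have h1 : h * (c⁻¹ * t * c⁻¹⁻¹) * h⁻¹ ∈ P := hhc _ ⟨t, ht, rfl⟩
    rw [show c * h * c⁻¹ * t * (c * h * c⁻¹)⁻¹ = c * (h * (c⁻¹ * t * c⁻¹⁻¹) * h⁻¹) * c⁻¹ by group]
    exact ⟨hc _ h1, conj_mem_ncen (hP.1 h1)⟩
  have h := key_syl B hF (hc x hxP) (by rw [map_mul, map_mul, map_inv, hσc, hx])
    hy2 hyZ hsyl (conj_mem_ncen (c := c) hl) (by rw [map_mul, map_mul, map_inv, hσc, hσl])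
  have := mul_mem (mul_mem (inv_mem hcM) h) hcM
  simpa [mul_assoc] using this

omit [Finite G] B in
theorem dihedral_conj {A X : G} (hA : A * A = 1) (hX : X * X = 1) (i : ℕ) :
    A * (A * X) ^ i * A⁻¹ = ((A * X) ^ i)⁻¹ ∧ X * (A * X) ^ i * X⁻¹ = ((A * X) ^ i)⁻¹ := by
  rw [← conj_pow, ← conj_pow, ← inv_pow, mul_inv_rev, inv_eq_of_mul_eq_one_left hA,
    inv_eq_of_mul_eq_one_left hX]
  constructor
  · congr 1
    rw [← mul_assoc A A, hA, one_mul]
  · congr 1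
    rw [← mul_assoc X A, mul_assoc (X * A), hX, mul_one]

/-- A fixed element of `S` that is an involution modulo the centre lies in `Z` modulo the centre. -/
theorem fixed_invol_mem {h : G} (hh : σ h = h) (hhM : h ∉ H₀)
    (hF : ∀ x ∈ S, σ x = x → x * x ∈ center G → (Z ⊓ center G).relIndex Z = 4 →
      ∀ z ∈ Z, z ∉ ncen x → False)
    {x : G} (hxS : x ∈ S) (hx : σ x = x) (hx2 : x * x ∈ center G) :
    ∃ z ∈ Z, z⁻¹ * x ∈ center G := by
  by_contra hc
  push Not at hc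
  obtain ⟨e, heZ, heC⟩ := exists_noncentral B
  obtain ⟨a, ha⟩ : ∃ a, a = h * e * h⁻¹ := ⟨_, rfl⟩
  have hσa : σ a = a := by rw [ha, map_mul, map_mul, map_inv, hh, B.fixZ heZ]
  have ha2 : a * a = 1 := by
    rw [ha, show h * e * h⁻¹ * (h * e * h⁻¹) = h * (e * e) * h⁻¹ by group, B.cfg.sqZ e heZ]
    group
  set π := QuotientGroup.mk' (center G) with hπ
  have hπC : ∀ g : G, π g = 1 ↔ g ∈ center G := fun g => QuotientGroup.eq_one_iff g
  have hA : π a * π a = 1 := by rw [← map_mul, ha2, map_one]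
  have hX : π x * π x = 1 := by rw [← map_mul]; exact (hπC _).mpr hx2
  have hσt : σ (a * x) = a * x := by rw [map_mul, hσa, hx]
  obtain ⟨i, hi | hi⟩ := Nat.even_or_odd' (orderOf (π (a * x)))
  · -- an involution modulo the centre commuting with both
    have hWne : π ((a * x) ^ i) ≠ 1 := by
      rw [map_pow]
      refine pow_ne_one_of_lt_orderOf ?_ ?_
      · have := orderOf_pos (π (a * x)); omega
      · have := orderOf_pos (π (a * x)); omega
    have hW2 : π ((a * x) ^ i) * π ((a * x) ^ i) = 1 := by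
      rw [map_pow, ← pow_add, ← two_mul, ← hi, pow_orderOf_eq_one]
    obtain ⟨s, b, hb, hsb⟩ := Nat.exists_eq_two_pow_mul_odd
      (orderOf_pos ((a * x) ^ i)).ne'
    obtain ⟨w, hw⟩ : ∃ w, w = ((a * x) ^ i) ^ b := ⟨_, rfl⟩
    have hπw : π w = π ((a * x) ^ i) := by
      obtain ⟨j, hj⟩ := hb
      rw [hw, map_pow, hj, pow_add, pow_mul, pow_two, hW2, one_pow, one_mul, pow_one]
    have hw2 : w ^ 2 ^ s = 1 := by
      rw [hw, ← pow_mul, mul_comm, ← hsb, pow_orderOf_eq_one]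
    have hσw : σ w = w := by rw [hw, map_pow, map_pow, hσt]
    have hd := dihedral_conj hA hX i
    rw [← map_mul, ← map_pow, inv_eq_of_mul_eq_one_left hW2, ← hπw] at hd
    have hwx : w ∈ ncen x := ncen_symm (mem_ncen.mpr ((hπC _).mp (by
      rw [map_mul, map_mul, map_mul, map_inv, map_inv, hd.2, mul_inv_cancel])))
    have hwa : a ∈ ncen w := mem_ncen.mpr ((hπC _).mp (by
      rw [map_mul, map_mul, map_mul, map_inv, map_inv, hd.1, mul_inv_cancel]))
    have hwM : w ∈ H₀ := key B hF hxS hx hx2 hc hwx hσw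
    obtain ⟨c, hcM, hσc, hcS⟩ := B.conj_into_S (H10.Shult.Rank.inv_zpowers hσw)
      (zpowers_le.mpr hwM) (isPGroup_zpowers hw2)
    obtain ⟨y, hy⟩ : ∃ y, y = c * w * c⁻¹ := ⟨_, rfl⟩
    have hyS : y ∈ S := hy ▸ hcS w (mem_zpowers w)
    have hσy : σ y = y := by rw [hy, map_mul, map_mul, map_inv, hσc, hσw]
    have hy2 : y * y ∈ center G := by
      rw [hy, show c * w * c⁻¹ * (c * w * c⁻¹) = c * (w * w) * c⁻¹ by group]
      exact (inferInstance : (center G).Normal).conj_mem _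
        ((hπC _).mp (by rw [map_mul, hπw, hW2])) c
    have hyC : y ∉ center G := fun hyC => hWne (by
      rw [← hπw]
      refine (hπC w).mpr ?_
      have h1 := (inferInstance : (center G).Normal).conj_mem _ hyC c⁻¹
      rwa [hy, show c⁻¹ * (c * w * c⁻¹) * c⁻¹⁻¹ = w by group] at h1)
    have hca : c * a * c⁻¹ ∈ ncen y := hy ▸ conj_mem_ncen hwa
    have hσca : σ (c * a * c⁻¹) = c * a * c⁻¹ := by rw [map_mul, map_mul, map_inv, hσc, hσa]
    have haM : c * a * c⁻¹ ∈ H₀ := by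
      by_cases hyZ : ∀ z ∈ Z, z⁻¹ * y ∉ center G
      · exact key B hF hyS hσy hy2 hyZ hca hσca
      · push Not at hyZ
        obtain ⟨z, hz, hzy⟩ := hyZ
        refine B.ncen_le hz (fun hzC => hyC ?_) ?_
        · simpa using mul_mem hzC hzy
        · rwa [show y = z * (z⁻¹ * y) by group, ncen_mul_center hzy] at hca
    refine hhM (B.mem_of_conjZ hh heZ heC ?_)
    rw [← ha]
    have := mul_mem (mul_mem (inv_mem hcM) haM) hcM
    simpa [mul_assoc] using this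
  · -- `a` and `x` are conjugate modulo the centre
    obtain ⟨k, hk⟩ : ∃ k, k = (a * x) ^ i := ⟨_, rfl⟩
    have hσk : σ k = k := by rw [hk, map_pow, hσt]
    have hka : π (k * a * k⁻¹) = π x := by
      have h1 := (dihedral_conj hA hX i).1
      rw [← map_mul, ← map_pow, ← hk] at h1
      have h2 : π k * π k * π (a * x) = 1 := by
        rw [hk, map_pow, ← pow_add, ← pow_succ, ← two_mul, ← hi, pow_orderOf_eq_one]
      rw [map_mul, map_mul, map_inv, ← h1,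
        show π k * π a * (π a * π k * (π a)⁻¹) = π k * (π a * π a) * π k * (π a)⁻¹ by group,
        hA, mul_one, inv_eq_of_mul_eq_one_left hA]
      rw [map_mul, ← mul_assoc] at h2
      rw [eq_inv_of_mul_eq_one_left h2, inv_eq_of_mul_eq_one_left hX]
    obtain ⟨d, hd⟩ : ∃ d, d = x⁻¹ * (k * h * e * (k * h)⁻¹) := ⟨_, rfl⟩
    have hdC : d ∈ center G := by
      refine (hπC _).mp ?_
      rw [hd, show k * h * e * (k * h)⁻¹ = k * a * k⁻¹ by rw [ha]; group, map_mul, hka, map_inv,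
        inv_mul_cancel]
    have hdx : k * h * e * (k * h)⁻¹ = x * d := by rw [hd]; group
    have hkhM : k * h ∈ H₀ := B.mem_of_conjZ (e := e) (by rw [map_mul, hσk, hh]) heZ heC
      (hdx ▸ mul_mem (B.hSM hxS) (B.center_le hdC))
    have hdS : d ∈ S := by
      obtain ⟨j, hj⟩ := B.cfg.pS ⟨x, hxS⟩
      have hj' : x ^ 2 ^ j = 1 := congrArg Subtype.val hj
      refine mem_of_central_two B hdC (n := j + 1) ?_
      have h1 : (x * d) ^ 2 = 1 := by
        rw [← hdx, pow_two,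
          show k * h * e * (k * h)⁻¹ * (k * h * e * (k * h)⁻¹) = k * h * (e * e) * (k * h)⁻¹ by
            group, B.cfg.sqZ e heZ]
        group
      have h2 : (x * d) ^ 2 ^ (j + 1) = 1 := by rw [pow_succ', pow_mul, h1, one_pow]
      have hcomm : Commute x d := mem_center_iff.mp hdC x
      rwa [hcomm.mul_pow, pow_succ, pow_mul, hj', one_pow, one_mul, ← pow_succ] at h2
    refine hc (x * d) (hdx ▸ B.fixed_conj_Z hkhM (by rw [map_mul, hσk, hh]) heZ
      (hdx.symm ▸ mul_mem hxS hdS)) ?_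
    rw [show (x * d)⁻¹ * x = d⁻¹ by group]
    exact inv_mem hdC

end H10.Shult.TwoInv
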